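/-
Abstract spaces with a symmetric or alternating form, and their models.

* `isoMon B`, `IsSymF ε B`, `prodForm`, `prodMapHom` : preserving endomorphisms, forms, products
* `SpHas`, `OHas` : element orders of `Sp_{2m}` and of the odd dimensional orthogonal group
* `spHas_of`, `oHas_of`, `spHom_exists`, `oModel_exists` : from an abstract space to the models
-/
import Cfsg.Agent.Lib.SympGeom.Iso
import Cfsg.Agent.Lib.Orth.Models
import Cfsg.Agent.Lib.Orth.Spinor
import Cfsg.Agent.Lib.Forms.Bases

set_option autoImplicit false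
set_option linter.unusedSectionVars false
set_option linter.style.haveILetI false

namespace Cfsg.Agent.PrimeGraphBC

open Cfsg Module Matrix
open QuadraticMap (polar)

variable {F : Type*} [Field F] {V U : Type*} [AddCommGroup V] [Module F V] [AddCommGroup U] [Module F U]

/-- The endomorphisms preserving a form. -/
def isoMon (B : LinearMap.BilinForm F V) : Submonoid (Module.End F V) where
  carrier := {g | ∀ x y, B (g x) (g y) = B x y}
  one_mem' := fun _ _ => rfl
  mul_mem' {a b} ha hb := fun x y => (ha (b x) (b y)).trans (hb x y)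

theorem mem_isoMon {B : LinearMap.BilinForm F V} {g : Module.End F V} :
    g ∈ isoMon B ↔ ∀ x y, B (g x) (g y) = B x y := Iff.rfl

/-- A non-degenerate form of symmetry `ε`. -/
structure IsSymF (ε : F) (B : LinearMap.BilinForm F V) : Prop where
  sym : ∀ x y, B y x = ε * B x y
  nd : ∀ x, (∀ y, B x y = 0) → x = 0

theorem IsSymF.alt {B : LinearMap.BilinForm F V} (h : IsSymF (-1 : F) B) (h2 : (2 : F) ≠ 0) (x : V) :
    B x x = 0 := by
  have h0 : (2 : F) * B x x = 0 := by linear_combination h.sym x x
  exact (mul_eq_zero.1 h0).resolve_left h2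

theorem IsSymF.of_alt {B : LinearMap.BilinForm F V} (halt : ∀ x, B x x = 0)
    (hnd : ∀ x, (∀ y, B x y = 0) → x = 0) : IsSymF (-1 : F) B :=
  ⟨fun x y => by
    have h := halt (x + y)
    simp only [map_add, LinearMap.add_apply, halt x, halt y] at h
    linear_combination h, hnd⟩

theorem IsSymF.iso_injective {ε : F} {B : LinearMap.BilinForm F V} (h : IsSymF ε B)
    {g : Module.End F V} (hg : g ∈ isoMon B) : Function.Injective g := by
  rw [injective_iff_map_eq_zero]
  intro x hx
  refine h.nd x fun y => ?_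
  rw [← hg x y, hx, map_zero, LinearMap.zero_apply]

/-- The orthogonal sum of two forms. -/
def prodForm (B : LinearMap.BilinForm F V) (C : LinearMap.BilinForm F U) :
    LinearMap.BilinForm F (V × U) :=
  B.compl₁₂ (LinearMap.fst F V U) (LinearMap.fst F V U) +
    C.compl₁₂ (LinearMap.snd F V U) (LinearMap.snd F V U)

theorem prodForm_apply (B : LinearMap.BilinForm F V) (C : LinearMap.BilinForm F U) (x y : V × U) :
    prodForm B C x y = B x.1 y.1 + C x.2 y.2 := by simp [prodForm]

theorem IsSymF.prod {ε : F} {B : LinearMap.BilinForm F V} {C : LinearMap.BilinForm F U}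
    (hB : IsSymF ε B) (hC : IsSymF ε C) : IsSymF ε (prodForm B C) := by
  refine ⟨fun x y => by rw [prodForm_apply, prodForm_apply, hB.sym, hC.sym]; ring, fun x hx => ?_⟩
  refine Prod.ext (hB.nd _ fun y => ?_) (hC.nd _ fun y => ?_)
  · have := hx (y, 0); simpa [prodForm_apply] using this
  · have := hx (0, y); simpa [prodForm_apply] using this

/-- Pairs of endomorphisms act on the product. -/
def prodMapHom : Module.End F V × Module.End F U →* Module.End F (V × U) where
  toFun p := p.1.prodMap p.2
  map_one' := LinearMap.ext fun _ => rfl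
  map_mul' _ _ := LinearMap.ext fun _ => rfl

theorem prodMapHom_injective :
    Function.Injective (prodMapHom : Module.End F V × Module.End F U →* Module.End F (V × U)) := by
  intro p q h
  refine Prod.ext (LinearMap.ext fun x => ?_) (LinearMap.ext fun y => ?_)
  · exact congrArg Prod.fst (LinearMap.congr_fun h (x, 0))
  · exact congrArg Prod.snd (LinearMap.congr_fun h (0, y))

theorem orderOf_prodMap (g : Module.End F V) (h : Module.End F U) :
    orderOf (g.prodMap h : Module.End F (V × U)) = Nat.lcm (orderOf g) (orderOf h) := by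
  rw [← Prod.orderOf_mk, ← orderOf_injective prodMapHom prodMapHom_injective]
  rfl

theorem prodMap_mem {B : LinearMap.BilinForm F V} {C : LinearMap.BilinForm F U} {g : Module.End F V}
    {h : Module.End F U} (hg : g ∈ isoMon B) (hh : h ∈ isoMon C) :
    (g.prodMap h : Module.End F (V × U)) ∈ isoMon (prodForm B C) := fun x y => by
  rw [prodForm_apply, prodForm_apply, LinearMap.prodMap_apply, LinearMap.prodMap_apply, hg, hh]

theorem neg_one_mem (B : LinearMap.BilinForm F V) : (-1 : Module.End F V) ∈ isoMon B := fun x y => by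
  simp [Module.End.one_apply]

/-- `Sp_{2m}` has an element of order `a`. -/
def SpHas (F : Type*) [Field F] (m a : ℕ) : Prop :=
  ∃ g : Matrix.symplecticGroup (Fin m) F, orderOf g = a

/-- The orthogonal group in dimension `2m+1` has an element of order `a`. -/
def OHas (F : Type*) [Field F] (m a : ℕ) : Prop :=
  ∃ g : Orth.IsoGrp (Orth.quadOdd m F), orderOf g = a

theorem sympB_isSym (m : ℕ) : IsSymF (-1 : F) (GLOrder.sympB m F) :=
  IsSymF.of_alt GLOrder.sympB_self GLOrder.sympB_nondeg

theorem polar_isSym (m : ℕ) (h2 : (2 : F) ≠ 0) :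
    IsSymF (1 : F) (Orth.quadOdd m F).polarBilin :=
  ⟨fun x y => by
    rw [one_mul, QuadraticMap.polarBilin_apply_apply, QuadraticMap.polarBilin_apply_apply,
      QuadraticMap.polar_comm],
    fun x hx => (Orth.quadOdd_nondeg m h2).1 x hx⟩

theorem finrank_oddSpace (m : ℕ) : finrank F (Unit ⊕ (Fin m ⊕ Fin m) → F) = 2 * m + 1 := by
  rw [Module.finrank_fintype_fun_eq_card]; simp; ring

/-- A symplectic matrix as an endomorphism. -/
def spAct (m : ℕ) (F : Type*) [Field F] :
    Matrix.symplecticGroup (Fin m) F →* isoMon (GLOrder.sympB m F) where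
  toFun s := ⟨Matrix.toLinAlgEquiv' s.1, fun x y => by
    simp only [Matrix.toLinAlgEquiv'_apply]
    exact GLOrder.sympB_mulVec s x y⟩
  map_one' := Subtype.ext (map_one Matrix.toLinAlgEquiv')
  map_mul' s t := Subtype.ext (map_mul Matrix.toLinAlgEquiv' s.1 t.1)

theorem spAct_injective (m : ℕ) : Function.Injective (spAct m F) := fun _ _ h =>
  Subtype.ext (Matrix.toLinAlgEquiv'.injective (congrArg Subtype.val h))

theorem orderOf_spAct {m : ℕ} (s : Matrix.symplecticGroup (Fin m) F) :
    orderOf ((spAct m F s : isoMon (GLOrder.sympB m F)) : Module.End F (Fin m ⊕ Fin m → F)) =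
      orderOf s := by
  rw [orderOf_submonoid, orderOf_injective _ (spAct_injective m)]

/-- An orthogonal matrix as an endomorphism. -/
def oAct {ι : Type} [Fintype ι] [DecidableEq ι] (Q : QuadraticForm F (ι → F)) :
    Orth.IsoGrp Q →* isoMon Q.polarBilin where
  toFun s := ⟨Orth.ap s, fun x y => Orth.polar_ap s x y⟩
  map_one' := Subtype.ext (LinearMap.ext fun x => Orth.ap_one x)
  map_mul' s t := Subtype.ext (LinearMap.ext fun x => Orth.ap_mul s t x)

theorem orderOf_oAct {ι : Type} [Fintype ι] [DecidableEq ι] {Q : QuadraticForm F (ι → F)}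
    (s : Orth.IsoGrp Q) :
    orderOf ((oAct Q s : isoMon Q.polarBilin) : Module.End F (ι → F)) = orderOf s := by
  rw [orderOf_submonoid, orderOf_injective]
  exact fun a b h => Orth.ext_ap fun x => LinearMap.congr_fun (congrArg Subtype.val h) x

variable [FiniteDimensional F V]

/-- Transport to the symplectic group. -/
theorem spHom_exists (h2 : (2 : F) ≠ 0) {B : LinearMap.BilinForm F V} (hB : IsSymF (-1 : F) B) {m : ℕ}
    (hd : finrank F V = 2 * m) :
    ∃ φ : isoMon B →* Matrix.symplecticGroup (Fin m) F,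
      Function.Injective φ ∧ (φ ⟨-1, neg_one_mem B⟩).1 = -1 := by
  obtain ⟨Φ, hΦ⟩ := SympGeom.exists_sympEquiv B (hB.alt h2) hB.nd hd
  let c : Module.End F V ≃ₐ[F] Matrix (Fin m ⊕ Fin m) (Fin m ⊕ Fin m) F :=
    (Φ.symm.conjAlgEquiv F).trans LinearMap.toMatrixAlgEquiv'
  have hc : ∀ g : isoMon B, c (g : Module.End F V) ∈ Matrix.symplecticGroup (Fin m) F := by
    intro g
    refine (GLOrder.mem_symplecticGroup_iff_preserves _).2 fun u v => ?_
    have key : ∀ w, c (g : Module.End F V) *ᵥ w = Φ.symm ((g : Module.End F V) (Φ w)) := by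
      intro w
      show LinearMap.toMatrixAlgEquiv' (Φ.symm.conjAlgEquiv F (g : Module.End F V)) *ᵥ w = _
      rw [← Matrix.toLinAlgEquiv'_apply, Matrix.toLinAlgEquiv'_toMatrixAlgEquiv']
      rfl
    rw [key, key, ← hΦ, Φ.apply_symm_apply, Φ.apply_symm_apply, g.2, hΦ]
  refine ⟨{ toFun := fun g => ⟨c (g : Module.End F V), hc g⟩
            map_one' := Subtype.ext (map_one c)
            map_mul' := fun a b => Subtype.ext (map_mul c (a : Module.End F V) b) },
    fun a b h => Subtype.ext (c.injective (congrArg Subtype.val h)), ?_⟩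
  show c (-1) = -1
  rw [map_neg, map_one]

theorem spHas_of (h2 : (2 : F) ≠ 0) {B : LinearMap.BilinForm F V} (hB : IsSymF (-1 : F) B) {m : ℕ}
    (hd : finrank F V = 2 * m) {g : Module.End F V} (hg : g ∈ isoMon B) :
    SpHas F m (orderOf g) := by
  obtain ⟨φ, hφ, -⟩ := spHom_exists h2 hB hd
  exact ⟨φ ⟨g, hg⟩, by rw [orderOf_injective φ hφ, ← orderOf_submonoid]⟩

/-- Transport to the orthogonal group: a similitude and the induced homomorphism. -/
theorem oModel_exists [Finite F] (h2 : (2 : F) ≠ 0) {B : LinearMap.BilinForm F V}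
    (hB : IsSymF (1 : F) B) {m : ℕ} (hd : finrank F V = 2 * m + 1) :
    ∃ (e : (Unit ⊕ (Fin m ⊕ Fin m) → F) ≃ₗ[F] V) (c : F)
      (φ : isoMon B →* Orth.IsoGrp (Orth.quadOdd m F)), c ≠ 0 ∧
      (∀ x y, B (e x) (e y) = c * polar ⇑(Orth.quadOdd m F) x y) ∧
      (∀ g x, Orth.ap (φ g) x = e.symm ((g : Module.End F V) (e x))) ∧ Function.Injective φ := by
  haveI := Fintype.ofFinite F
  have hQv : ∀ v, B.toQuadraticMap v = B v v := fun v => rfl
  have hpol : ∀ x y, polar ⇑B.toQuadraticMap x y = 2 * B x y := fun x y => by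
    simp only [polar, hQv, map_add, LinearMap.add_apply, hB.sym x y]; ring
  have hnd : (QuadraticMap.polarBilin B.toQuadraticMap).Nondegenerate := by
    refine (Forms.nondegenerate_polarBilin_iff _).2 fun x hx => hB.nd x fun y => ?_
    exact (mul_eq_zero.1 ((hpol x y).symm.trans (hx y))).resolve_left h2
  obtain ⟨-, c, e, hc, he⟩ := Forms.classify_odd B.toQuadraticMap hnd hd
  rw [Forms.qfOdd_eq] at he
  have hBe : ∀ x y, B (e x) (e y) = c / 2 * polar ⇑(Orth.quadOdd m F) x y := fun x y => by
    have h := Forms.polar_similar _ (quadFormOdd m F) e c he x y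
    rw [hpol] at h
    rw [Orth.coe_quadOdd]
    field_simp
    linear_combination h
  have hQ : ∀ (g : isoMon B) x,
      quadFormOdd m F (e.symm ((g : Module.End F V) (e x))) = quadFormOdd m F x := by
    intro g x
    refine mul_left_cancel₀ hc ?_
    rw [← he, ← he, e.apply_symm_apply, hQv, hQv, g.2]
  let conj : Module.End F V ≃ₐ[F] Module.End F (Unit ⊕ (Fin m ⊕ Fin m) → F) := e.symm.conjAlgEquiv F
  let M : Module.End F V →* Matrix (Unit ⊕ (Fin m ⊕ Fin m)) (Unit ⊕ (Fin m ⊕ Fin m)) F :=
    (conj.trans LinearMap.toMatrixAlgEquiv').toAlgHom.toMonoidHom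
  have hMv : ∀ (g : Module.End F V) x, M g *ᵥ x = e.symm (g (e x)) := by
    intro g x
    show LinearMap.toMatrixAlgEquiv' (conj g) *ᵥ x = _
    rw [← Matrix.toLinAlgEquiv'_apply, Matrix.toLinAlgEquiv'_toMatrixAlgEquiv']
    rfl
  have hu : ∀ g : isoMon B, IsUnit (M (g : Module.End F V)) := fun g => by
    rw [← Matrix.mulVec_injective_iff_isUnit]
    intro x y h
    have h' : M (g : Module.End F V) *ᵥ x = M (g : Module.End F V) *ᵥ y := h
    rw [hMv, hMv] at h'
    exact e.injective (hB.iso_injective g.2 (e.symm.injective h'))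
  let φ : isoMon B →* Orth.IsoGrp (Orth.quadOdd m F) :=
    { toFun := fun g => ⟨(hu g).unit, fun u _ => by
        show quadFormOdd m F (((hu g).unit : Matrix _ _ F) *ᵥ u) = quadFormOdd m F u
        rw [IsUnit.unit_spec, hMv]; exact hQ g u⟩
      map_one' := Subtype.ext (Units.ext (map_one M))
      map_mul' := fun a b => Subtype.ext (Units.ext (map_mul M (a : Module.End F V) b)) }
  have hap : ∀ g x, Orth.ap (φ g) x = e.symm ((g : Module.End F V) (e x)) := fun g x =>
    hMv _ x
  refine ⟨e, c / 2, φ, div_ne_zero hc h2, hBe, hap, fun a b h => Subtype.ext (LinearMap.ext fun v => ?_)⟩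
  have := congrArg (fun y => e (Orth.ap y (e.symm v))) h
  simpa [hap] using this

theorem oHas_of [Finite F] (h2 : (2 : F) ≠ 0) {B : LinearMap.BilinForm F V} (hB : IsSymF (1 : F) B)
    {m : ℕ} (hd : finrank F V = 2 * m + 1) {g : Module.End F V} (hg : g ∈ isoMon B) :
    OHas F m (orderOf g) := by
  obtain ⟨-, -, φ, -, -, -, hφ⟩ := oModel_exists h2 hB hd
  exact ⟨φ ⟨g, hg⟩, by rw [orderOf_injective φ hφ, ← orderOf_submonoid]⟩

/-- An element of order `r` with prime `r` exists exactly when `r` divides the group order. -/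
theorem spHas_prime [Finite F] {m r : ℕ} (hr : r.Prime)
    (h : r ∣ Nat.card (Matrix.symplecticGroup (Fin m) F)) : SpHas F m r :=
  haveI := Fact.mk hr
  exists_prime_orderOf_dvd_card' r h

theorem SpHas.dvd [Finite F] {m a : ℕ} (h : SpHas F m a) :
    a ∣ Nat.card (Matrix.symplecticGroup (Fin m) F) := by
  obtain ⟨g, rfl⟩ := h
  exact orderOf_dvd_natCard g

theorem OHas.dvd [Finite F] {m a : ℕ} (h : OHas F m a) :
    a ∣ Nat.card (Orth.IsoGrp (Orth.quadOdd m F)) := by
  obtain ⟨g, rfl⟩ := h
  exact orderOf_dvd_natCard g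

end Cfsg.Agent.PrimeGraphBC
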