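/-
Elements of odd order preserving a form: the Fitting decomposition, the twisted form and the
passage between symplectic and odd dimensional orthogonal groups.

* `restF B W`, `twist B g a` : restricted form, the twisted form `B(g u - g^{a-1} u, v)`
* `exists_split` : the orthogonal decomposition into unipotent and fixed-point-free part
* `oHas_of_spHas`, `spHas_of_oHas` : element orders, odd case
-/
import Cfsg.Agent.Lib.PrimeGraphBC.Base
import Cfsg.Agent.Lib.Forms.Symplectic
import Cfsg.Agent.S0286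

set_option autoImplicit false
set_option linter.unusedSectionVars false
set_option linter.style.haveILetI false

namespace Cfsg.Agent.PrimeGraphBC

open Cfsg Module
open QuadraticMap (polar)

variable {F : Type*} [Field F] {V : Type*} [AddCommGroup V] [Module F V]

/-- The restriction of a form to a subspace. -/
def restF (B : LinearMap.BilinForm F V) (W : Submodule F V) : LinearMap.BilinForm F W :=
  B.compl₁₂ W.subtype W.subtype

theorem restF_apply (B : LinearMap.BilinForm F V) (W : Submodule F V) (x y : W) :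
    restF B W x y = B (x : V) (y : V) := rfl

theorem restrict_mem {B : LinearMap.BilinForm F V} {g : Module.End F V} (hg : g ∈ isoMon B)
    {W : Submodule F V} (hW : ∀ x ∈ W, g x ∈ W) :
    (g.restrict hW : Module.End F W) ∈ isoMon (restF B W) := fun x y => by
  rw [restF_apply, restF_apply, LinearMap.coe_restrict_apply, LinearMap.coe_restrict_apply, hg]

theorem restrict_pow_coe {g : Module.End F V} {W : Submodule F V} (hW : ∀ x ∈ W, g x ∈ W) (j : ℕ)
    (x : W) : (((g.restrict hW : Module.End F W) ^ j) x : V) = (g ^ j) (x : V) := by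
  induction j with
  | zero => rfl
  | succ j ih =>
    rw [pow_succ', pow_succ', Module.End.mul_apply, Module.End.mul_apply,
      LinearMap.coe_restrict_apply, ih]

theorem IsSymF.restF_of_codisjoint {ε : F} {B : LinearMap.BilinForm F V} (hB : IsSymF ε B)
    {W U : Submodule F V} (hWU : Codisjoint W U) (ho : ∀ w ∈ W, ∀ u ∈ U, B w u = 0) :
    IsSymF ε (restF B W) := by
  refine ⟨fun x y => hB.sym _ _, fun x hx => Subtype.ext (hB.nd _ fun y => ?_)⟩
  have hy : y ∈ W ⊔ U := by rw [hWU.eq_top]; exact Submodule.mem_top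
  obtain ⟨w, hw, u, hu, rfl⟩ := Submodule.mem_sup.1 hy
  rw [map_add, ho _ x.2 u hu, add_zero]
  exact hx ⟨w, hw⟩

theorem orderOf_split {W U : Submodule F V} (hWU : Codisjoint W U) {g : Module.End F V}
    (hW : ∀ x ∈ W, g x ∈ W) (hU : ∀ x ∈ U, g x ∈ U) :
    orderOf g = Nat.lcm (orderOf (g.restrict hW : Module.End F W))
      (orderOf (g.restrict hU : Module.End F U)) := by
  set L := Nat.lcm (orderOf (g.restrict hW : Module.End F W))
    (orderOf (g.restrict hU : Module.End F U)) with hL
  refine Nat.dvd_antisymm (orderOf_dvd_of_pow_eq_one (LinearMap.ext fun x => ?_))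
    (Nat.lcm_dvd ?_ ?_)
  · have hx : x ∈ W ⊔ U := by rw [hWU.eq_top]; exact Submodule.mem_top
    obtain ⟨w, hw, u, hu, rfl⟩ := Submodule.mem_sup.1 hx
    have h1 : (g.restrict hW : Module.End F W) ^ L = 1 :=
      orderOf_dvd_iff_pow_eq_one.1 (Nat.dvd_lcm_left _ _)
    have h2 : (g.restrict hU : Module.End F U) ^ L = 1 :=
      orderOf_dvd_iff_pow_eq_one.1 (Nat.dvd_lcm_right _ _)
    have e1 := restrict_pow_coe hW L ⟨w, hw⟩
    have e2 := restrict_pow_coe hU L ⟨u, hu⟩
    rw [h1] at e1
    rw [h2] at e2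
    rw [map_add, ← e1, ← e2]
    rfl
  all_goals
    refine orderOf_dvd_of_pow_eq_one (LinearMap.ext fun x => Subtype.ext ?_)
    rw [restrict_pow_coe, pow_orderOf_eq_one]
    rfl

theorem orth_ker_range_pow {B : LinearMap.BilinForm F V} {g : Module.End F V} (hg : g ∈ isoMon B)
    {a : ℕ} (ha : 0 < a) (hga : g ^ a = 1) :
    ∀ k, ∀ u, ((g - 1) ^ k : Module.End F V) u = 0 → ∀ x, B (((g - 1) ^ k : Module.End F V) x) u = 0 := by
  intro k
  induction k with
  | zero => intro u hu x; rw [pow_zero, Module.End.one_apply] at hu; rw [hu, map_zero]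
  | succ k ih =>
    intro u hu x
    have hgw : g ((g ^ (a - 1)) u) = u := by
      rw [← Module.End.mul_apply, ← pow_succ', Nat.sub_add_cancel ha, hga, Module.End.one_apply]
    set w := (g ^ (a - 1)) u with hw
    have hk : ((g - 1) ^ k : Module.End F V) ((g - 1) w) = 0 := by
      rw [hw, ← Module.End.mul_apply, ← pow_succ, ← Module.End.mul_apply,
        ((((Commute.refl g).sub_left (Commute.one_left g)).pow_left _).pow_right _).eq,
        Module.End.mul_apply, hu, map_zero]
    set y := ((g - 1) ^ k : Module.End F V) x with hy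
    calc B (((g - 1) ^ (k + 1) : Module.End F V) x) u = B ((g - 1) y) (g w) := by
          rw [pow_succ', Module.End.mul_apply, hgw]
      _ = -B y ((g - 1) w) := by
          simp only [LinearMap.sub_apply, Module.End.one_apply, map_sub, hg y w]
          ring
      _ = 0 := by rw [ih _ hk x, neg_zero]

/-- The form `B((g - g⁻¹)u, v)`. -/
def twist (B : LinearMap.BilinForm F V) (g : Module.End F V) (a : ℕ) : LinearMap.BilinForm F V :=
  B.compl₁₂ (g - g ^ (a - 1)) LinearMap.id

theorem twist_apply (B : LinearMap.BilinForm F V) (g : Module.End F V) (a : ℕ) (u v : V) :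
    twist B g a u v = B (g u - (g ^ (a - 1)) u) v := rfl

theorem mem_twist_of_commute {B : LinearMap.BilinForm F V} {g h : Module.End F V} (hh : h ∈ isoMon B)
    (hc : Commute h g) (a : ℕ) : h ∈ isoMon (twist B g a) := fun u v => by
  have h1 : ∀ u, g (h u) = h (g u) := fun u => (LinearMap.congr_fun hc.eq u).symm
  have h2 : ∀ u, (g ^ (a - 1)) (h u) = h ((g ^ (a - 1)) u) := fun u =>
    (LinearMap.congr_fun (hc.pow_right (a - 1)).eq u).symm
  rw [twist_apply, twist_apply, h1, h2, ← map_sub, hh]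

/-- For a fixed-point-free element of odd order the twisted form has the opposite symmetry. -/
theorem twist_isSym {ε : F} {B : LinearMap.BilinForm F V} (hB : IsSymF ε B) {g : Module.End F V}
    (hg : g ∈ isoMon B) {a : ℕ} (ha : Odd a) (hga : g ^ a = 1) (hfree : ∀ x, g x = x → x = 0) :
    IsSymF (-ε) (twist B g a) := by
  have hsucc : a - 1 + 1 = a := Nat.sub_add_cancel ha.pos
  have hl : ∀ x, (g ^ (a - 1)) (g x) = x := fun x => by
    rw [← Module.End.mul_apply, ← pow_succ, hsucc, hga, Module.End.one_apply]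
  have hr : ∀ x, g ((g ^ (a - 1)) x) = x := fun x => by
    rw [← Module.End.mul_apply, ← pow_succ', hsucc, hga, Module.End.one_apply]
  have hadj : ∀ x y, B x (g y) = B ((g ^ (a - 1)) x) y := fun x y => by
    rw [← hg ((g ^ (a - 1)) x) y, hr]
  have hadj' : ∀ x y, B x ((g ^ (a - 1)) y) = B (g x) y := fun x y => by
    rw [← hg x ((g ^ (a - 1)) y), hr]
  refine ⟨fun u v => ?_, fun u hu => hfree u ?_⟩
  · rw [twist_apply, twist_apply, hB.sym u (g v - (g ^ (a - 1)) v), map_sub, hadj, hadj']
    simp only [map_sub, LinearMap.sub_apply]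
    ring
  · have h1 : g u = (g ^ (a - 1)) u := sub_eq_zero.1 (hB.nd _ hu)
    have h2 : (g ^ 2) u = u := by
      rw [pow_two, Module.End.mul_apply]
      conv_rhs => rw [← hr u]
      rw [h1]
    obtain ⟨k, hk⟩ := ha
    have h3 : ∀ i, (g ^ (2 * i)) u = u := by
      intro i
      induction i with
      | zero => rfl
      | succ i ih => rw [mul_add, mul_one, pow_add, Module.End.mul_apply, h2, ih]
    calc g u = g ((g ^ (2 * k)) u) := by rw [h3]
      _ = u := by rw [← Module.End.mul_apply, ← pow_succ', ← hk, hga, Module.End.one_apply]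

theorem IsSymF.even_finrank [FiniteDimensional F V] {B : LinearMap.BilinForm F V}
    (hB : IsSymF (-1 : F) B) (h2 : (2 : F) ≠ 0) : Even (finrank F V) := by
  have h := Forms.even_finrank_sub_ker B (hB.alt h2)
  have hk : LinearMap.ker B = ⊥ := by
    rw [LinearMap.ker_eq_bot']
    exact fun x hx => hB.nd x fun y => by rw [hx, LinearMap.zero_apply]
  rwa [hk, finrank_bot, Nat.sub_zero] at h

/-- Fitting decomposition of an element of odd order preserving a form. -/
theorem exists_split [FiniteDimensional F V] {ε : F} {B : LinearMap.BilinForm F V} (hB : IsSymF ε B)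
    {g : Module.End F V} (hg : g ∈ isoMon B) (p : ℕ) [hp : Fact p.Prime] [CharP F p]
    {a : ℕ} (ha : 0 < a) (hga : g ^ a = 1) :
    ∃ (W U : Submodule F V) (hW : ∀ x ∈ W, g x ∈ W) (hU : ∀ x ∈ U, g x ∈ U) (N : ℕ),
      IsCompl W U ∧ IsSymF ε (restF B W) ∧ IsSymF ε (restF B U) ∧
      finrank F W + finrank F U = finrank F V ∧
      orderOf g = Nat.lcm (orderOf (g.restrict hW : Module.End F W))
        (orderOf (g.restrict hU : Module.End F U)) ∧
      (∀ x ∈ W, g x = x → x = 0) ∧ (∀ x ∈ U, ((g - 1) ^ p ^ N : Module.End F V) x = 0) ∧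
      (∀ x, g x = x → x ∈ U) := by
  obtain ⟨N, hN⟩ := Filter.eventually_atTop.1
    (LinearMap.eventually_isCompl_ker_pow_range_pow (g - 1 : Module.End F V))
  have hcompl := hN (p ^ N) (le_of_lt (Nat.lt_pow_self hp.out.one_lt))
  set k := p ^ N with hk
  set U := LinearMap.ker ((g - 1) ^ k : Module.End F V) with hUdef
  set W := LinearMap.range ((g - 1) ^ k : Module.End F V) with hWdef
  have hcomm : ∀ y, g (((g - 1) ^ k : Module.End F V) y) = ((g - 1) ^ k : Module.End F V) (g y) :=
    fun y => LinearMap.congr_fun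
      ((((Commute.refl g).sub_right (Commute.one_right g)).pow_right k).eq) y
  have hW : ∀ x ∈ W, g x ∈ W := by
    rintro x ⟨y, rfl⟩
    exact ⟨g y, (hcomm y).symm⟩
  have hU : ∀ x ∈ U, g x ∈ U := fun x hx => by
    rw [hUdef, LinearMap.mem_ker] at hx ⊢
    rw [← hcomm, hx, map_zero]
  have ho : ∀ w ∈ W, ∀ u ∈ U, B w u = 0 := by
    rintro w ⟨y, rfl⟩ u hu
    exact orth_ker_range_pow hg ha hga k u hu y
  have hfix : ∀ x, g x = x → x ∈ U := fun x hx => by
    rw [hUdef, LinearMap.mem_ker, show k = k - 1 + 1 from (Nat.sub_add_cancel (Nat.one_le_pow N p hp.out.pos)).symm, pow_succ,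
      Module.End.mul_apply, LinearMap.sub_apply, hx, Module.End.one_apply, sub_self, map_zero]
  refine ⟨W, U, hW, hU, N, hcompl.symm, hB.restF_of_codisjoint hcompl.symm.codisjoint ho,
    hB.restF_of_codisjoint hcompl.codisjoint (fun u hu w hw => by rw [hB.sym, ho w hw u hu, mul_zero]),
    ?_, orderOf_split hcompl.symm.codisjoint hW hU,
    fun x hx hgx => Submodule.disjoint_def.1 hcompl.disjoint x (hfix x hgx) hx,
    fun x hx => LinearMap.mem_ker.1 hx, hfix⟩
  exact Submodule.finrank_add_eq_of_isCompl hcompl.symm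

theorem restrict_pow_char {g : Module.End F V} {U : Submodule F V} (hU : ∀ x ∈ U, g x ∈ U) (p : ℕ)
    [Fact p.Prime] [CharP F p] {N : ℕ} (h : ∀ x ∈ U, ((g - 1) ^ p ^ N : Module.End F V) x = 0) :
    (g.restrict hU : Module.End F U) ^ p ^ N = 1 := by
  have he : ((g - 1) ^ p ^ N : Module.End F V) = g ^ p ^ N - 1 := by
    have := congrArg (Polynomial.aeval g)
      (sub_pow_char_pow (R := Polynomial F) (x := Polynomial.X) (y := 1) (p := p) (n := N))
    simpa using this
  refine LinearMap.ext fun x => Subtype.ext ?_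
  have := h x x.2
  rw [he, LinearMap.sub_apply, Module.End.one_apply, sub_eq_zero] at this
  rw [restrict_pow_coe, this]
  rfl

theorem eq_one_of_finrank_le_one [FiniteDimensional F V] {h : Module.End F V} {n : ℕ}
    (hn : (h - 1) ^ n = 0) (hd : finrank F V ≤ 1) : h = 1 := by
  obtain ⟨v, hv⟩ := finrank_le_one_iff.1 hd
  obtain ⟨c, hc⟩ := hv ((h - 1) v)
  have hit : ∀ j, ((h - 1) ^ j : Module.End F V) v = c ^ j • v := by
    intro j
    induction j with
    | zero => simp
    | succ j ih => rw [pow_succ', Module.End.mul_apply, ih, map_smul, ← hc, smul_smul, pow_succ]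
  have h0 := hit n
  rw [hn, LinearMap.zero_apply] at h0
  have hz : (h - 1) v = 0 := by
    rcases smul_eq_zero.1 h0.symm with hc0 | hv0
    · rw [← hc, eq_zero_of_pow_eq_zero hc0, zero_smul]
    · rw [hv0, map_zero]
  refine sub_eq_zero.1 (LinearMap.ext fun w => ?_)
  obtain ⟨d, rfl⟩ := hv w
  rw [map_smul, hz, smul_zero, LinearMap.zero_apply]

/-- `p` divides the order of both groups as soon as the rank is positive. -/
theorem dvd_card_groups [Finite F] (p : ℕ) [Fact p.Prime] [CharP F p] (h2 : (2 : F) ≠ 0) {m : ℕ}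
    (hm : 1 ≤ m) :
    p ∣ Nat.card (Matrix.symplecticGroup (Fin m) F) ∧
      p ∣ Nat.card (Orth.IsoGrp (Orth.quadOdd m F)) := by
  haveI := Fintype.ofFinite F
  obtain ⟨s, -, hs⟩ := FiniteField.card F p
  have hpq : p ∣ Fintype.card F ^ (m ^ 2) := by
    refine dvd_pow ?_ (pow_ne_zero 2 (by omega))
    rw [hs]; exact dvd_pow_self p s.ne_zero
  have hodd : Odd (Fintype.card F) := by
    rw [Nat.odd_iff]
    refine FiniteField.odd_card_of_char_ne_two fun hc => h2 ?_
    have := ringChar.charP F
    have := CharP.cast_eq_zero F (ringChar F)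
    rw [hc] at this; exact_mod_cast this
  constructor
  · rw [GLOrder.card_Sp, Nat.card_eq_fintype_card]; exact Dvd.dvd.mul_right hpq _
  · have h : Nat.card (Cfsg.isometryGroup F (Cfsg.quadFormOdd m F)) = _ :=
      Cfsg.Agent.S0286.result rfl hodd m
    show p ∣ Nat.card (Cfsg.isometryGroup F (Cfsg.quadFormOdd m F))
    rw [h]; exact (hpq.mul_left 2).mul_right _

/-- The unipotent part has order `1` or `p` when the order is squarefree. -/
theorem unip_cases [FiniteDimensional F V] {g : Module.End F V} {U : Submodule F V}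
    (hU : ∀ x ∈ U, g x ∈ U) (p : ℕ) [hp : Fact p.Prime] [CharP F p] {N a : ℕ} (ha : Squarefree a)
    (hga : g ^ a = 1) (h : ∀ x ∈ U, ((g - 1) ^ p ^ N : Module.End F V) x = 0) :
    orderOf (g.restrict hU : Module.End F U) = 1 ∨
      (orderOf (g.restrict hU : Module.End F U) = p ∧ 2 ≤ finrank F U) := by
  have hpow := restrict_pow_char hU p h
  have hd : orderOf (g.restrict hU : Module.End F U) ∣ a := orderOf_dvd_of_pow_eq_one
    (LinearMap.ext fun x => Subtype.ext (by rw [restrict_pow_coe, hga]; rfl))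
  obtain ⟨j, hj, hj'⟩ := (Nat.dvd_prime_pow hp.out).1 (orderOf_dvd_of_pow_eq_one hpow)
  rcases (show j = 0 ∨ j = 1 ∨ 2 ≤ j by omega) with rfl | rfl | h2
  · exact .inl (hj'.trans (pow_zero p))
  · refine .inr ⟨hj'.trans (pow_one p), ?_⟩
    by_contra hlt
    have hnil : ((g.restrict hU : Module.End F U) - 1) ^ p ^ N = 0 := by
      have e : ∀ (i : ℕ) (x : U), ((((g.restrict hU : Module.End F U) - 1) ^ i) x : V) =
          ((g - 1) ^ i : Module.End F V) (x : V) := by
        intro i
        induction i with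
        | zero => intro x; rfl
        | succ i ih =>
          intro x
          rw [pow_succ, pow_succ, Module.End.mul_apply, Module.End.mul_apply, ih]
          simp
      exact LinearMap.ext fun x => Subtype.ext (by rw [e, h x x.2]; rfl)
    have := eq_one_of_finrank_le_one hnil (show finrank F U ≤ 1 by omega)
    rw [this, orderOf_one, pow_one] at hj'
    exact hp.out.ne_one hj'.symm
  · exfalso
    have := ha p ((pow_two p) ▸ (pow_dvd_pow p h2).trans (hj' ▸ hd))
    exact hp.out.ne_one (Nat.isUnit_iff.1 this)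

/-- A form has an isometry of order `1` or `p`. -/
theorem exists_unip [Finite F] (p : ℕ) [hp : Fact p.Prime] [CharP F p] (h2 : (2 : F) ≠ 0) {k d : ℕ}
    (hd : d = 1 ∨ (d = p ∧ 1 ≤ k)) :
    (∃ w ∈ isoMon (GLOrder.sympB k F), orderOf w = d) ∧
      (∃ w ∈ isoMon (Orth.quadOdd k F).polarBilin, orderOf w = d) := by
  rcases hd with rfl | ⟨rfl, hk⟩
  · exact ⟨⟨1, one_mem _, orderOf_one⟩, ⟨1, one_mem _, orderOf_one⟩⟩
  · obtain ⟨h1, h3⟩ := dvd_card_groups (F := F) d h2 hk
    obtain ⟨x, hx⟩ := exists_prime_orderOf_dvd_card' d h1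
    obtain ⟨y, hy⟩ := exists_prime_orderOf_dvd_card' d h3
    exact ⟨⟨_, (spAct k F x).2, (orderOf_spAct x).trans hx⟩,
      ⟨_, (oAct _ y).2, (orderOf_oAct y).trans hy⟩⟩

/-- Odd orders pass from `Sp_{2n}` to `O_{2n+1}`. -/
theorem oHas_of_spHas [Finite F] (h2 : (2 : F) ≠ 0) {n a : ℕ} (ha : Odd a) (hsq : Squarefree a)
    (h : SpHas F n a) : OHas F n a := by
  obtain ⟨s, hs⟩ := h
  obtain ⟨p, hp⟩ := CharP.exists F
  haveI : Fact p.Prime := ⟨CharP.char_is_prime F p⟩
  obtain ⟨g, hgdef⟩ : ∃ g : Module.End F (Fin n ⊕ Fin n → F),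
      g = ((spAct n F s : isoMon (GLOrder.sympB n F)) : Module.End F _) := ⟨_, rfl⟩
  have hg : g ∈ isoMon (GLOrder.sympB n F) := hgdef ▸ (spAct n F s).2
  have hord : orderOf g = a := hgdef ▸ (orderOf_spAct s).trans hs
  have hga : g ^ a = 1 := hord ▸ pow_orderOf_eq_one g
  obtain ⟨W, U, hW, hU, N, -, hBW, hBU, hsum, hlcm, hfree, hunip, -⟩ :=
    exists_split (sympB_isSym n) hg p ha.pos hga
  obtain ⟨k, hk⟩ := (hBU.even_finrank h2).exists_two_nsmul
  rw [GLOrder.finrank_sympSpace] at hsum
  rw [smul_eq_mul] at hk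
  have hgW := restrict_mem hg hW
  have hgWa : (g.restrict hW : Module.End F W) ^ a = 1 :=
    LinearMap.ext fun x => Subtype.ext (by rw [restrict_pow_coe, hga]; rfl)
  have hnew := twist_isSym hBW hgW ha hgWa fun x hx =>
    Subtype.ext (hfree x x.2 (congrArg Subtype.val hx))
  rw [neg_neg] at hnew
  obtain ⟨-, w, hw, hwo⟩ := exists_unip (F := F) p h2 (k := k)
    (d := orderOf (g.restrict hU : Module.End F U))
    ((unip_cases hU p hsq hga hunip).imp_right fun h => ⟨h.1, by omega⟩)
  have h3 := oHas_of h2 (hnew.prod (polar_isSym k h2)) (m := n)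
    (by rw [Module.finrank_prod, finrank_oddSpace]; omega)
    (prodMap_mem (mem_twist_of_commute hgW (Commute.refl _) a) hw)
  rwa [orderOf_prodMap, hwo, ← hlcm, hord] at h3

/-- Odd orders pass from `O_{2n+1}` to `Sp_{2n}`. -/
theorem spHas_of_oHas [Finite F] (h2 : (2 : F) ≠ 0) {n a : ℕ} (ha : Odd a) (hsq : Squarefree a)
    (h : OHas F n a) : SpHas F n a := by
  obtain ⟨s, hs⟩ := h
  obtain ⟨p, hp⟩ := CharP.exists F
  haveI : Fact p.Prime := ⟨CharP.char_is_prime F p⟩
  obtain ⟨g, hgdef⟩ : ∃ g : Module.End F (Unit ⊕ (Fin n ⊕ Fin n) → F),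
      g = ((oAct _ s : isoMon (Orth.quadOdd n F).polarBilin) : Module.End F _) := ⟨_, rfl⟩
  have hg : g ∈ isoMon (Orth.quadOdd n F).polarBilin := hgdef ▸ (oAct _ s).2
  have hord : orderOf g = a := hgdef ▸ (orderOf_oAct s).trans hs
  have hga : g ^ a = 1 := hord ▸ pow_orderOf_eq_one g
  obtain ⟨W, U, hW, hU, N, -, hBW, hBU, hsum, hlcm, hfree, hunip, -⟩ :=
    exists_split (polar_isSym n h2) hg p ha.pos hga
  have hgW := restrict_mem hg hW
  have hgWa : (g.restrict hW : Module.End F W) ^ a = 1 :=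
    LinearMap.ext fun x => Subtype.ext (by rw [restrict_pow_coe, hga]; rfl)
  have hnew := twist_isSym hBW hgW ha hgWa fun x hx =>
    Subtype.ext (hfree x x.2 (congrArg Subtype.val hx))
  obtain ⟨m, hm⟩ := (hnew.even_finrank h2).exists_two_nsmul
  rw [finrank_oddSpace] at hsum
  rw [smul_eq_mul] at hm
  obtain ⟨⟨w, hw, hwo⟩, -⟩ := exists_unip (F := F) p h2 (k := n - m)
    (d := orderOf (g.restrict hU : Module.End F U))
    ((unip_cases hU p hsq hga hunip).imp_right fun h => ⟨h.1, by omega⟩)
  have h3 := spHas_of h2 (hnew.prod (sympB_isSym (n - m))) (m := n)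
    (by rw [Module.finrank_prod, GLOrder.finrank_sympSpace]; omega)
    (prodMap_mem (mem_twist_of_commute hgW (Commute.refl _) a) hw)
  rwa [orderOf_prodMap, hwo, ← hlcm, hord] at h3

end Cfsg.Agent.PrimeGraphBC
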