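/-
Primes dividing the order of a smaller symplectic group, and elements of order `2r` in
`PSp_{2n}(q)` and `PΩ_{2n+1}(q)` built from such primes.

* `dvd_card_Sp_mono`, `dvd_card_O`, `natCast_ne_zero`, `not_dvd_pow_sub_one`
* `psp_two_mul_iff`, `pomega_two_mul_iff` : order `2r` through commuting elements
* `psp_of_small`, `pomega_of_small` : both have order `2r` when `r ∣ |Sp_{2n-2}|`
-/
import Cfsg.Agent.Lib.PrimeGraphBC.Split
import Cfsg.Agent.Lib.PrimeGraphBC.Bridge

set_option autoImplicit false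
set_option linter.unusedSectionVars false
set_option linter.style.haveILetI false

namespace Cfsg.Agent.PrimeGraphBC

open Cfsg Module
open QuadraticMap (polar)

variable {F : Type*} [Field F] [Fintype F]

theorem dvd_card_Sp_mono {r k m : ℕ} (hkm : k ≤ m)
    (h : r ∣ Nat.card (Matrix.symplecticGroup (Fin k) F)) :
    r ∣ Nat.card (Matrix.symplecticGroup (Fin m) F) := by
  refine h.trans ?_
  rw [GLOrder.card_Sp, GLOrder.card_Sp]
  exact mul_dvd_mul (pow_dvd_pow _ (Nat.pow_le_pow_left hkm 2))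
    (Finset.prod_dvd_prod_of_subset _ _ _ (Finset.range_mono hkm))

theorem odd_card (h2 : (2 : F) ≠ 0) : Odd (Fintype.card F) := by
  rw [Nat.odd_iff]
  refine FiniteField.odd_card_of_char_ne_two fun hc => h2 ?_
  have := ringChar.charP F
  have := CharP.cast_eq_zero F (ringChar F)
  rw [hc] at this; exact_mod_cast this

theorem card_O (h2 : (2 : F) ≠ 0) (k : ℕ) :
    Nat.card (Orth.IsoGrp (Orth.quadOdd k F)) = 2 * Nat.card (Matrix.symplecticGroup (Fin k) F) := by
  have h : Nat.card (Cfsg.isometryGroup F (Cfsg.quadFormOdd k F)) = _ :=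
    Cfsg.Agent.S0286.result rfl (odd_card h2) k
  rw [GLOrder.card_Sp, Nat.card_eq_fintype_card (α := F), ← mul_assoc]
  exact h

theorem dvd_card_O (h2 : (2 : F) ≠ 0) {r : ℕ} (hr : Odd r) {k : ℕ} :
    r ∣ Nat.card (Orth.IsoGrp (Orth.quadOdd k F)) ↔ r ∣ Nat.card (Matrix.symplecticGroup (Fin k) F) := by
  rw [card_O h2]
  exact ⟨hr.coprime_two_right.dvd_of_dvd_mul_left, fun h => h.mul_left 2⟩

theorem natCast_ne_zero (h2 : (2 : F) ≠ 0) {r n : ℕ} (hr : r.Prime) (hn : 2 ≤ n)
    (hD : ¬ r ∣ Nat.card (Matrix.symplecticGroup (Fin (n - 1)) F)) : (r : F) ≠ 0 := by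
  intro h0
  obtain ⟨p, hp⟩ := CharP.exists F
  haveI : Fact p.Prime := ⟨CharP.char_is_prime F p⟩
  have hpr : p = r := (Nat.prime_dvd_prime_iff_eq Fact.out hr).1 ((CharP.cast_eq_zero_iff F p r).1 h0)
  exact hD (hpr ▸ (dvd_card_groups (F := F) p h2 (by omega)).1)

theorem not_dvd_pow_sub_one {r n : ℕ}
    (hD : ¬ r ∣ Nat.card (Matrix.symplecticGroup (Fin (n - 1)) F)) :
    ∀ j, 1 ≤ j → j < n → ¬ r ∣ Fintype.card F ^ (2 * j) - 1 := by
  intro j hj hjn hd
  refine hD ?_
  rw [GLOrder.card_Sp, Nat.card_eq_fintype_card]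
  refine Dvd.dvd.mul_left (hd.trans ?_) _
  have hmem : j - 1 ∈ Finset.range (n - 1) := Finset.mem_range.2 (by omega)
  have := Finset.dvd_prod_of_mem (fun i => Fintype.card F ^ (2 * (i + 1)) - 1) hmem
  simpa [Nat.sub_add_cancel hj] using this

/-- Order `2r` in `PSp`. -/
theorem psp_two_mul_iff {n r : ℕ} (hr : r.Prime) (hr2 : Odd r) :
    r * 2 ∈ Set.range (orderOf : PSp n F → ℕ) ↔
      ∃ s g : Matrix.symplecticGroup (Fin n) F, Commute s g ∧ orderOf g = r ∧
        s * s ∈ Subgroup.center (Matrix.symplecticGroup (Fin n) F) ∧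
        s ∉ Subgroup.center (Matrix.symplecticGroup (Fin n) F) := by
  set Z := Subgroup.center (Matrix.symplecticGroup (Fin n) F)
  have hsq : ∀ c ∈ Z, c * c = 1 := fun c hc => by
    apply Subtype.ext
    rcases GLOrder.center_Sp.1 hc with h | h <;> simp [h]
  constructor
  · rintro ⟨y, hy⟩
    obtain ⟨s, hs⟩ := QuotientGroup.mk'_surjective Z (y ^ r)
    obtain ⟨g0, hg0⟩ := QuotientGroup.mk'_surjective Z (y ^ 2)
    have hord2 : orderOf (y ^ r) = 2 := by
      rw [orderOf_pow' _ hr.ne_zero, hy, Nat.gcd_mul_right_left, Nat.mul_div_cancel_left _ hr.pos]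
    have hordr : orderOf (y ^ 2) = r := by
      rw [orderOf_pow' _ two_ne_zero, hy, Nat.gcd_mul_left_left, Nat.mul_div_cancel _ two_pos]
    have hc : g0 ^ r ∈ Z := by
      rw [← QuotientGroup.eq_one_iff, ← QuotientGroup.mk'_apply, map_pow, hg0, ← hordr,
        pow_orderOf_eq_one]
    set g := g0 ^ (r + 1) with hg
    have hgπ : QuotientGroup.mk' Z g = y ^ 2 := by
      rw [hg, map_pow, hg0, pow_succ, ← hordr, pow_orderOf_eq_one, one_mul]
    have hgr : g ^ r = 1 := by
      obtain ⟨l, hl⟩ := hr2.add_one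
      rw [hg, ← pow_mul, mul_comm, pow_mul, hl, pow_add, ← (Commute.refl (g0 ^ r)).mul_pow,
        hsq _ hc, one_pow]
    have hgord : orderOf g = r := by
      haveI := Fact.mk hr
      refine orderOf_eq_prime hgr fun h => ?_
      rw [h, map_one] at hgπ
      rw [← hgπ, orderOf_one] at hordr
      exact hr.ne_one hordr.symm
    refine ⟨s, g, ?_, hgord, ?_, ?_⟩
    · have hd : s * g * s⁻¹ * g⁻¹ ∈ Z := by
        rw [← QuotientGroup.eq_one_iff, ← QuotientGroup.mk'_apply]
        simp only [map_mul, map_inv, hs, hgπ]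
        group
      set c := s * g * s⁻¹ * g⁻¹ with hcdef
      have h1 : (c * g) ^ r = 1 := by
        rw [hcdef, show s * g * s⁻¹ * g⁻¹ * g = s * g * s⁻¹ by group, conj_pow, hgr]
        group
      rw [(show Commute c g from (Subgroup.mem_center_iff.1 hd g).symm).mul_pow, hgr, mul_one] at h1
      have hc1 : c = 1 := by
        obtain ⟨l, hl⟩ := hr2
        rw [hl, pow_succ, two_mul, pow_add, ← (Commute.refl c).mul_pow, hsq c hd, one_pow,
          one_mul] at h1
        exact h1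
      show s * g = g * s
      calc s * g = c * g * s := by rw [hcdef]; group
        _ = g * s := by rw [hc1, one_mul]
    · rw [← QuotientGroup.eq_one_iff, ← QuotientGroup.mk'_apply, map_mul, hs, ← sq, ← hord2,
        pow_orderOf_eq_one]
    · intro h
      rw [← QuotientGroup.eq_one_iff, ← QuotientGroup.mk'_apply, hs] at h
      rw [h, orderOf_one] at hord2
      omega
  · rintro ⟨s, g, hc, hg, hs2, hs⟩
    haveI := Fact.mk hr
    refine ⟨QuotientGroup.mk' Z (g * s), ?_⟩
    have hs' : orderOf (QuotientGroup.mk' Z s) = 2 := orderOf_eq_prime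
      (by rw [sq, ← map_mul]; exact (QuotientGroup.eq_one_iff _).2 hs2)
      fun h => hs ((QuotientGroup.eq_one_iff _).1 h)
    have hg' : orderOf (QuotientGroup.mk' Z g) = r := by
      refine orderOf_eq_prime (by rw [← map_pow, ← hg, pow_orderOf_eq_one, map_one]) fun h => ?_
      have h2 : orderOf g ∣ 2 :=
        orderOf_dvd_of_pow_eq_one (by rw [sq]; exact hsq g ((QuotientGroup.eq_one_iff _).1 h))
      rw [hg] at h2
      rcases (Nat.dvd_prime Nat.prime_two).1 h2 with h | h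
      · exact hr.ne_one h
      · exact Nat.not_even_iff_odd.2 hr2 (h ▸ even_two)
    rw [map_mul, (hc.symm.map _).orderOf_mul_eq_mul_orderOf_of_coprime
      (by rw [hg', hs']; exact hr2.coprime_two_right), hg', hs']

/-- Order `2r` in `PΩ`. -/
theorem pomega_two_mul_iff {n r : ℕ} (hn : 3 ≤ n) (h2 : (2 : F) ≠ 0) (hr : r.Prime) (hr2 : Odd r) :
    r * 2 ∈ Set.range (orderOf : POmega F (quadFormOdd n F) → ℕ) ↔
      ∃ z g : Orth.IsoGrp (Orth.quadOdd n F), z ∈ Omega F ⇑(Orth.quadOdd n F) ∧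
        g ∈ Omega F ⇑(Orth.quadOdd n F) ∧ Commute z g ∧ orderOf z = 2 ∧ orderOf g = r := by
  rw [pomega_range_iff_omega hn h2]
  constructor
  · rintro ⟨y, hy, hord⟩
    refine ⟨y ^ r, y ^ 2, pow_mem hy r, pow_mem hy 2, Commute.pow_pow_self y r 2, ?_, ?_⟩
    · rw [orderOf_pow' _ hr.ne_zero, hord, Nat.gcd_mul_right_left, Nat.mul_div_cancel_left _ hr.pos]
    · rw [orderOf_pow' _ two_ne_zero, hord, Nat.gcd_mul_left_left, Nat.mul_div_cancel _ two_pos]
  · rintro ⟨z, g, hz, hg, hc, hz2, hgr⟩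
    refine ⟨g * z, mul_mem hg hz, ?_⟩
    rw [hc.symm.orderOf_mul_eq_mul_orderOf_of_coprime
      (by rw [hgr, hz2]; exact hr2.coprime_two_right), hgr, hz2]

theorem mem_omega_of_odd (h2 : (2 : F) ≠ 0) {n r : ℕ} (hr : Odd r)
    {g : Orth.IsoGrp (Orth.quadOdd n F)} (hg : g ^ r = 1) : g ∈ Omega F ⇑(Orth.quadOdd n F) := by
  have hG := good_quadOdd (F := F) n h2
  rw [Orth.omega_eq_ker hG, MonoidHom.mem_ker]
  have h1 : Orth.signHom hG g ^ 2 = 1 := by
    rw [sq]; exact Prod.ext (Int.units_mul_self _) (Int.units_mul_self _)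
  have h3 : Orth.signHom hG g ^ r = 1 := by rw [← map_pow, hg, map_one]
  obtain ⟨l, rfl⟩ := hr
  rwa [pow_succ, pow_mul, h1, one_pow, one_mul] at h3

theorem isoMon_orderOf {V : Type*} [AddCommGroup V] [Module F V] {B : LinearMap.BilinForm F V}
    {G : Module.End F V} (hG : G ∈ isoMon B) : orderOf (⟨G, hG⟩ : isoMon B) = orderOf G :=
  (orderOf_submonoid _).symm

/-- The small symplectic group gives order `2r` in `PSp`. -/
theorem psp_of_small (h2 : (2 : F) ≠ 0) {n r : ℕ} (hn : 2 ≤ n) (hr : r.Prime) (hr2 : Odd r)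
    (hD : r ∣ Nat.card (Matrix.symplecticGroup (Fin (n - 1)) F)) :
    r * 2 ∈ Set.range (orderOf : PSp n F → ℕ) := by
  rw [psp_two_mul_iff hr hr2]
  obtain ⟨g', hg'⟩ := spHas_prime hr hD
  have hsym := (sympB_isSym (F := F) 1).prod (sympB_isSym (F := F) (n - 1))
  obtain ⟨φ, hφ, hφneg⟩ := spHom_exists h2 hsym (m := n)
    (by rw [Module.finrank_prod, GLOrder.finrank_sympSpace, GLOrder.finrank_sympSpace]; omega)
  have hS : ((-1 : Module.End F (Fin 1 ⊕ Fin 1 → F)).prodMap
      (1 : Module.End F (Fin (n - 1) ⊕ Fin (n - 1) → F))) ∈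
        isoMon (prodForm (GLOrder.sympB 1 F) (GLOrder.sympB (n - 1) F)) :=
    prodMap_mem (neg_one_mem _) (one_mem _)
  have hG : ((1 : Module.End F (Fin 1 ⊕ Fin 1 → F)).prodMap
      ((spAct (n - 1) F g' : isoMon (GLOrder.sympB (n - 1) F)) : Module.End F _)) ∈
        isoMon (prodForm (GLOrder.sympB 1 F) (GLOrder.sympB (n - 1) F)) :=
    prodMap_mem (one_mem _) (spAct (n - 1) F g').2
  set S : isoMon (prodForm (GLOrder.sympB 1 F) (GLOrder.sympB (n - 1) F)) := ⟨_, hS⟩
  set G : isoMon (prodForm (GLOrder.sympB 1 F) (GLOrder.sympB (n - 1) F)) := ⟨_, hG⟩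
  refine ⟨φ S, φ G, ?_, ?_, ?_, ?_⟩
  · refine Commute.map ?_ φ
    apply Subtype.ext
    show _ * _ = _ * _
    refine LinearMap.ext fun x => Prod.ext ?_ ?_
    · simp [S, G]
    · simp [S, G]
  · rw [orderOf_injective φ hφ, isoMon_orderOf, orderOf_prodMap, orderOf_one, Nat.lcm_one_left,
      orderOf_spAct, hg']
  · have h : S * S = 1 := Subtype.ext (LinearMap.ext fun x => Prod.ext (by simp [S]) (by simp [S]))
    rw [← map_mul, h, map_one]
    exact one_mem _
  · intro h
    rcases GLOrder.center_Sp.1 h with h1 | h1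
    · have h3 : S = 1 := hφ (Subtype.ext (h1.trans (congrArg Subtype.val (map_one φ)).symm))
      have h4 := congrFun (congrArg Prod.fst (LinearMap.congr_fun (congrArg Subtype.val h3)
        ((Pi.single (.inl 0) 1 : Fin 1 ⊕ Fin 1 → F), 0))) (.inl 0)
      simp [S] at h4
      exact h2 (by linear_combination -h4)
    · have h3 : S = ⟨-1, neg_one_mem _⟩ := hφ (Subtype.ext (h1.trans hφneg.symm))
      have h4 := congrFun (congrArg Prod.snd (LinearMap.congr_fun (congrArg Subtype.val h3)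
        (0, (Pi.single (.inl ⟨0, by omega⟩) 1 : Fin (n - 1) ⊕ Fin (n - 1) → F)))) (.inl ⟨0, by omega⟩)
      simp [S] at h4
      exact h2 (by linear_combination h4)

/-- The form `x x' + y y'`. -/
def planeB : LinearMap.BilinForm F (F × F) := prodForm (LinearMap.mul F F) (LinearMap.mul F F)

theorem mul_isSym : IsSymF (1 : F) (LinearMap.mul F F) :=
  ⟨fun x y => by simp [mul_comm], fun x hx => by simpa using hx 1⟩

/-- The small orthogonal group gives order `2r` in `PΩ`. -/
theorem pomega_of_small (h2 : (2 : F) ≠ 0) {n r : ℕ} (hn : 3 ≤ n) (hr : r.Prime) (hr2 : Odd r)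
    (hD : r ∣ Nat.card (Matrix.symplecticGroup (Fin (n - 1)) F)) :
    r * 2 ∈ Set.range (orderOf : POmega F (quadFormOdd n F) → ℕ) := by
  classical
  rw [pomega_two_mul_iff hn h2 hr hr2]
  haveI := Fact.mk hr
  obtain ⟨g', hg'⟩ := exists_prime_orderOf_dvd_card' r
    ((dvd_card_O (F := F) h2 hr2 (k := n - 1)).2 hD)
  have hsym := ((mul_isSym (F := F)).prod (mul_isSym (F := F))).prod (polar_isSym (F := F) (n - 1) h2)
  obtain ⟨e, c, φ, hc, hB, hap, hφ⟩ := oModel_exists h2 hsym (m := n)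
    (by rw [Module.finrank_prod, Module.finrank_prod, finrank_oddSpace, Module.finrank_self]; omega)
  have hG : ((1 : Module.End F (F × F)).prodMap
      ((oAct _ g' : isoMon (Orth.quadOdd (n - 1) F).polarBilin) : Module.End F _)) ∈
        isoMon (prodForm (prodForm (LinearMap.mul F F) (LinearMap.mul F F))
          (Orth.quadOdd (n - 1) F).polarBilin) :=
    prodMap_mem (one_mem _) (oAct _ g').2
  set G : isoMon (prodForm (prodForm (LinearMap.mul F F) (LinearMap.mul F F))
          (Orth.quadOdd (n - 1) F).polarBilin) := ⟨_, hG⟩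
  set v1 := e.symm (((1 : F), (0 : F)), (0 : Unit ⊕ (Fin (n - 1) ⊕ Fin (n - 1)) → F))
  set v2 := e.symm (((0 : F), (1 : F)), (0 : Unit ⊕ (Fin (n - 1) ⊕ Fin (n - 1)) → F))
  have hQ := Orth.quadOdd_nondeg (F := F) n h2
  have hgood := good_quadOdd (F := F) n h2
  have hp11 : c * polar ⇑(Orth.quadOdd n F) v1 v1 = 1 := by
    rw [← hB, e.apply_symm_apply]; simp [prodForm_apply]
  have hp22 : c * polar ⇑(Orth.quadOdd n F) v2 v2 = 1 := by
    rw [← hB, e.apply_symm_apply]; simp [prodForm_apply]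
  have hp12 : polar ⇑(Orth.quadOdd n F) v1 v2 = 0 := by
    have : c * polar ⇑(Orth.quadOdd n F) v1 v2 = 0 := by
      rw [← hB, e.apply_symm_apply, e.apply_symm_apply]; simp [prodForm_apply]
    exact (mul_eq_zero.1 this).resolve_left hc
  rw [Orth.pl_self] at hp11 hp22
  have hQ1 : Orth.quadOdd n F v1 ≠ 0 := fun h => by rw [h] at hp11; simp at hp11
  have hQ2 : Orth.quadOdd n F v2 ≠ 0 := fun h => by rw [h] at hp22; simp at hp22
  have hQ12 : Orth.quadOdd n F v1 = Orth.quadOdd n F v2 :=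
    mul_left_cancel₀ (mul_ne_zero hc h2) (by linear_combination hp11 - hp22)
  set r1 := Orth.refl (Orth.quadOdd n F) v1
  set r2 := Orth.refl (Orth.quadOdd n F) v2
  have hr12 : Commute r1 r2 := by
    show r1 * r2 = r2 * r1
    rw [Orth.mul_refl, Orth.refl_ap_of_orth _ hp12]
  have hfix : ∀ v, (v = v1 ∨ v = v2) → Orth.ap (φ G) v = v := by
    intro v hv
    rw [hap]
    rcases hv with rfl | rfl
    · show e.symm ((G : Module.End F _) (e v1)) = v1
      simp [G, v1]
    · show e.symm ((G : Module.End F _) (e v2)) = v2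
      simp [G, v2]
  have hcomm : ∀ v, (v = v1 ∨ v = v2) → Commute (φ G) (Orth.refl (Orth.quadOdd n F) v) := by
    intro v hv
    show _ * _ = _ * _
    rw [Orth.mul_refl, hfix v hv]
  have hgord : orderOf (φ G) = r := by
    rw [orderOf_injective φ hφ, isoMon_orderOf, orderOf_prodMap, orderOf_one, Nat.lcm_one_left,
      orderOf_oAct, hg']
  have hz1 : r1 * r2 ≠ 1 := by
    intro h
    have h3 : Orth.ap (r1 * r2) v1 = v1 := by rw [h, Orth.ap_one]
    have h5 : Orth.ap r2 v1 = v1 := Orth.refl_ap_of_orth _ (by rw [Orth.pl_comm]; exact hp12)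
    have h6 : Orth.ap r1 v1 = -v1 := Orth.refl_ap_self _ hQ1
    rw [Orth.ap_mul, h5, h6] at h3
    have h4 : (2 : F) • v1 = 0 := by
      rw [two_smul]
      nth_rw 1 [← h3]
      exact neg_add_cancel v1
    rcases smul_eq_zero.1 h4 with h5 | h5
    · exact h2 h5
    · exact hQ1 (by rw [h5, QuadraticMap.map_zero])
  refine ⟨r1 * r2, φ G, ?_, mem_omega_of_odd h2 hr2 (hgord ▸ pow_orderOf_eq_one _),
    ((hcomm v1 (.inl rfl)).mul_right (hcomm v2 (.inr rfl))).symm, ?_, hgord⟩
  · rw [Orth.mem_omega_iff hgood, Orth.dick_mul hgood, Orth.spin_mul hgood, Orth.dick_refl hQ hQ1,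
      Orth.dick_refl hQ hQ2, Orth.spin_refl hQ hQ1, Orth.spin_refl hQ hQ2, hQ12, ← sq, ← sq]
    exact ⟨by norm_num, quadraticChar_sq_one hQ2⟩
  · refine orderOf_eq_prime ?_ hz1
    rw [hr12.mul_pow, sq, sq, Orth.refl_mul_self, Orth.refl_mul_self, mul_one]

end Cfsg.Agent.PrimeGraphBC
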