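/-
A square root of `-1` commuting with a fixed-point-free isometry of large prime order.

* `gram_comp` : Gram determinant of `B(f u, v)`
* `exists_sqrt_neg_one` : on a `2n`-dimensional orthogonal space of square discriminant, an isometry
  of prime order `r`, where `r` divides no `q^{2j}-1` with `j < n`, commutes with an isometry `T`
  with `T² = -1`
-/
import Cfsg.Agent.Lib.PrimeGraphBC.Split
import Cfsg.Agent.S2362
import Cfsg.Agent.S2364
import Mathlib.FieldTheory.Finite.GaloisField

set_option autoImplicit false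
set_option linter.unusedSectionVars false
set_option linter.style.haveILetI false

namespace Cfsg.Agent.PrimeGraphBC

open Cfsg Module
open Polynomial (aeval X)

variable {F : Type*} [Field F] {V : Type*} [AddCommGroup V] [Module F V]

/-- The Gram matrix of a form in a basis. -/
def gramB {κ : Type*} (B : LinearMap.BilinForm F V) (b : κ → V) : Matrix κ κ F :=
  Matrix.of fun i j => B (b i) (b j)

theorem gram_comp {κ : Type*} [Fintype κ] [DecidableEq κ] (B : LinearMap.BilinForm F V)
    (f : Module.End F V) (b : Basis κ F V) :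
    (Matrix.of fun i j => B (f (b i)) (b j)).det = LinearMap.det f * (gramB B b).det := by
  have h : (Matrix.of fun i j => B (f (b i)) (b j)) =
      (LinearMap.toMatrix b b f).transpose * gramB B b := by
    ext i j
    rw [Matrix.of_apply]
    conv_lhs => rw [← b.sum_repr (f (b i))]
    simp only [map_sum, map_smul, LinearMap.sum_apply, LinearMap.smul_apply, smul_eq_mul,
      Matrix.mul_apply, Matrix.transpose_apply, gramB, Matrix.of_apply, LinearMap.toMatrix_apply]
  rw [h, Matrix.det_mul, Matrix.det_transpose, LinearMap.det_toMatrix]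

theorem gram_det_ne_zero {κ : Type*} [Fintype κ] [DecidableEq κ] {ε : F}
    {B : LinearMap.BilinForm F V} (hB : IsSymF ε B) (b : Basis κ F V) : (gramB B b).det ≠ 0 := by
  intro h
  obtain ⟨v, hv, hv0⟩ := Matrix.exists_vecMul_eq_zero_iff.2 h
  refine hv ?_
  have hx : (∑ i, v i • b i) = 0 := hB.nd _ fun y => by
    have : B (∑ i, v i • b i) = 0 := b.ext fun j => by
      have := congrFun hv0 j
      simpa [Matrix.vecMul, dotProduct, gramB] using this
    rw [this, LinearMap.zero_apply]
  exact funext (Fintype.linearIndependent_iff.1 b.linearIndependent v hx)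

theorem det_anti_blocks {κ : Type*} [Fintype κ] [DecidableEq κ] (Y : Matrix κ κ F) :
    (Matrix.fromBlocks 0 Y Y.transpose 0).det = (-1) ^ Fintype.card κ * Y.det ^ 2 := by
  have h : Matrix.fromBlocks 0 Y Y.transpose 0 * Matrix.fromBlocks (1 : Matrix κ κ F) 0 1 1 *
      Matrix.fromBlocks (1 : Matrix κ κ F) (-1) 0 1 =
      Matrix.fromBlocks Y 0 Y.transpose (-Y.transpose) := by
    simp [Matrix.fromBlocks_multiply]
  have h2 := congrArg Matrix.det h
  rw [Matrix.det_mul, Matrix.det_mul, Matrix.det_fromBlocks_zero₁₂, Matrix.det_fromBlocks_zero₂₁,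
    Matrix.det_fromBlocks_zero₁₂] at h2
  simp only [Matrix.det_one, mul_one, Matrix.det_neg, Matrix.det_transpose] at h2
  rw [h2]; ring

section Core

variable [Fintype F] [FiniteDimensional F V] {r n : ℕ} [Fact r.Prime]
  {B : LinearMap.BilinForm F V} {G : Module.End F V}

theorem invariant_dim (hV : finrank F V = 2 * n) (hGr : G ^ r = 1) (hfree : ∀ x, G x = x → x = 0)
    (hno : ∀ j, 1 ≤ j → j < n → ¬ r ∣ Fintype.card F ^ (2 * j) - 1) {X : Submodule F V}
    (hX : ∀ x ∈ X, G x ∈ X) :
    finrank F X = 0 ∨ finrank F X = 2 * n ∨ (finrank F X = n ∧ Odd n) := by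
  set d := finrank F X
  have hd : d ≤ 2 * n := hV ▸ Submodule.finrank_le X
  by_contra hcon
  push Not at hcon
  obtain ⟨hd0, hd1, hd2⟩ := hcon
  have h1 := S2364.dvd_of_fixed_free G hGr X hX fun x _ => hfree x
  have h2 := S2364.dvd_of_fixed_free G hGr (⊤ : Submodule F V) (fun x _ => Submodule.mem_top)
    fun x _ => hfree x
  rw [finrank_top, hV] at h2
  have h3 : r ∣ Fintype.card F ^ Nat.gcd d (2 * n) - 1 := by
    rw [← Nat.pow_sub_one_gcd_pow_sub_one]
    exact Nat.dvd_gcd h1 h2
  obtain ⟨c, hc⟩ := Nat.gcd_dvd_right d (2 * n)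
  have hle : Nat.gcd d (2 * n) ≤ d := Nat.le_of_dvd (by omega) (Nat.gcd_dvd_left d (2 * n))
  have hpos : 0 < Nat.gcd d (2 * n) := Nat.gcd_pos_of_pos_left _ (by omega)
  generalize he : Nat.gcd d (2 * n) = e at *
  rcases (show c = 0 ∨ c = 1 ∨ c = 2 ∨ 3 ≤ c by omega) with rfl | rfl | rfl | hc3
  · omega
  · omega
  · have hen : e = n := by omega
    subst hen
    obtain ⟨j, hj⟩ : e ∣ d := he ▸ Nat.gcd_dvd_left d (2 * e)
    have hj1 : j = 1 := by
      have hj2 : j < 2 := by
        by_contra hcon
        have := Nat.mul_le_mul_left e (show 2 ≤ j by omega)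
        omega
      rcases (show j = 0 ∨ j = 1 by omega) with rfl | rfl
      · omega
      · rfl
    subst hj1
    have hev : Even e := Nat.not_odd_iff_even.1 (hd2 (by omega))
    obtain ⟨i, rfl⟩ := hev
    exact hno i (by omega) (by omega) (by rwa [two_mul])
  · have hlt : e < n := by nlinarith
    refine hno e hpos hlt (h3.trans ?_)
    rw [mul_comm 2 e, pow_mul]
    exact Nat.sub_one_dvd_pow_sub_one _ 2

/-- Irreducible case. -/
theorem sqrt_irreducible (h2 : (2 : F) ≠ 0) (hB : IsSymF (1 : F) B) (hG : G ∈ isoMon B)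
    (hn : 0 < n) (hV : finrank F V = 2 * n) (hr2 : Odd r) (hGr : G ^ r = 1)
    (hfree : ∀ x, G x = x → x = 0) (hr : r ∣ Fintype.card F ^ (2 * n) - 1)
    (hdet : IsSquare (LinearMap.det (G - G ^ (r - 1))))
    (hirr : ∀ X : Submodule F V, (∀ x ∈ X, G x ∈ X) → X = ⊥ ∨ X = ⊤) :
    ∃ T : Module.End F V, Commute T G ∧ T * T = -1 ∧ T ∈ isoMon B := by
  classical
  haveI : Nontrivial V := Module.nontrivial_of_finrank_pos (R := F) (by omega)
  have hint : IsIntegral F G := IsIntegral.of_finite F G
  have hinv : ∀ P : Polynomial F, ∀ x, aeval G P x = 0 → aeval G P (G x) = 0 := fun P x hx => by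
    have h := map_mul (aeval G) P X
    rw [mul_comm P X, map_mul, Polynomial.aeval_X] at h
    rw [← Module.End.mul_apply, ← h, Module.End.mul_apply, hx, map_zero]
  obtain ⟨f, hf, hfdvd⟩ := WfDvdMonoid.exists_irreducible_factor (minpoly.not_isUnit F G)
    (minpoly.ne_zero hint)
  haveI := Fact.mk hf
  have hfG : aeval G f = 0 := by
    rcases hirr (LinearMap.ker (aeval G f)) (fun x hx => LinearMap.mem_ker.2
      (hinv f x (LinearMap.mem_ker.1 hx))) with h | h
    · exfalso
      obtain ⟨c, hc⟩ := hfdvd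
      have h0 := minpoly.aeval F G
      rw [hc, map_mul] at h0
      have hcG : aeval G c = 0 := LinearMap.ext fun x => by
        have := LinearMap.congr_fun h0 x
        rw [Module.End.mul_apply] at this
        exact LinearMap.ker_eq_bot'.1 h _ this
      have hc0 : c ≠ 0 := fun hc0 => minpoly.ne_zero hint (by rw [hc, hc0, mul_zero])
      have := Polynomial.natDegree_le_of_dvd (minpoly.dvd F G hcG) hc0
      rw [hc, Polynomial.natDegree_mul hf.ne_zero hc0] at this
      have := hf.natDegree_pos
      omega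
    · exact LinearMap.ext fun x => LinearMap.mem_ker.1 (h ▸ Submodule.mem_top)
  set K := AdjoinRoot f
  haveI : Module.Finite F K := (AdjoinRoot.powerBasis hf.ne_zero).finite
  let φ : K →ₐ[F] Module.End F V := Ideal.Quotient.liftₐ (Ideal.span {f}) (aeval G) fun a ha => by
    obtain ⟨c, rfl⟩ := Ideal.mem_span_singleton.1 ha
    rw [map_mul, hfG, zero_mul]
  have hroot : φ (AdjoinRoot.root f) = G := Polynomial.aeval_X G
  set ζ := AdjoinRoot.root f
  obtain ⟨w, hw⟩ := exists_ne (0 : V)
  let ψ : K →ₗ[F] V := (LinearMap.applyₗ w) ∘ₗ φ.toLinearMap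
  have hψ : Function.Bijective ψ := by
    constructor
    · rw [injective_iff_map_eq_zero]
      intro y hy
      by_contra hy0
      refine hw ?_
      have hone : φ (y⁻¹ * y) = 1 := by rw [inv_mul_cancel₀ hy0, map_one]
      have h := LinearMap.congr_fun hone w
      rw [map_mul, Module.End.mul_apply, Module.End.one_apply] at h
      rw [← h, show φ y w = 0 from hy, map_zero]
    · rw [← LinearMap.range_eq_top]
      refine (hirr _ ?_).resolve_left fun h => hw ?_
      · rintro x ⟨y, rfl⟩
        refine ⟨ζ * y, ?_⟩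
        show φ (ζ * y) w = G (φ y w)
        rw [map_mul, hroot, Module.End.mul_apply]
      · have hmem : w ∈ LinearMap.range ψ := ⟨1, by
          show φ 1 w = w
          rw [map_one, Module.End.one_apply]⟩
        rwa [h, Submodule.mem_bot] at hmem
  let e : K ≃ₗ[F] V := LinearEquiv.ofBijective ψ hψ
  have hφinj : Function.Injective φ := fun y z h => hψ.1 (congrArg (fun T : Module.End F V => T w) h)
  haveI : Finite K := Module.finite_of_finite F
  haveI := Fintype.ofFinite K
  have hK : Fintype.card K = Fintype.card F ^ (2 * n) := by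
    rw [Module.card_eq_pow_finrank (K := F), e.finrank_eq, hV]
  have hnorm : ∀ y, LinearMap.det (φ y) = Algebra.norm F y := by
    intro y
    have hconj : φ y = e.toLinearMap ∘ₗ (Algebra.lmul F K y) ∘ₗ e.symm.toLinearMap := by
      refine LinearMap.ext fun x => ?_
      obtain ⟨z, rfl⟩ := e.surjective x
      simp only [LinearMap.comp_apply, LinearEquiv.coe_coe, LinearEquiv.symm_apply_apply]
      show φ y (φ z w) = φ (y * z) w
      rw [map_mul, Module.End.mul_apply]
    rw [Algebra.norm_apply, hconj, LinearMap.det_conj]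
  have hζr : ζ ^ r = 1 := hφinj (by rw [map_pow, hroot, hGr, map_one])
  set q := Fintype.card F with hqdef
  have hq1 : 1 < q := Fintype.one_lt_card
  -- powers of the Frobenius
  have hfrob : ∀ j : ℕ, ∃ σ : K →ₐ[F] K, ∀ y, σ y = y ^ q ^ j := by
    intro j
    induction j with
    | zero => exact ⟨AlgHom.id F K, fun y => by simp⟩
    | succ j ih =>
      obtain ⟨σ, hσ⟩ := ih
      refine ⟨(FiniteField.frobeniusAlgHom F K).comp σ, fun y => ?_⟩
      rw [AlgHom.comp_apply, FiniteField.coe_frobeniusAlgHom, hσ, pow_succ, pow_mul]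
  obtain ⟨σ, hσ⟩ := hfrob n
  have hne : ¬ r ∣ q ^ n - 1 := by
    intro hd
    have hfix : σ = AlgHom.id F K := AdjoinRoot.algHom_ext (by
      show σ ζ = ζ
      obtain ⟨c, hc⟩ := hd
      rw [hσ, show q ^ n = r * c + 1 by have := Nat.one_le_pow n q (by omega); omega, pow_succ,
        pow_mul, hζr, one_pow, one_mul])
    have hqn : 1 < q ^ n := Nat.one_lt_pow (by omega) hq1
    have hle := Polynomial.card_le_degree_of_subset_roots
      (p := (Polynomial.X ^ q ^ n - Polynomial.X : Polynomial K)) (Z := Finset.univ) fun y _ => by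
        rw [Polynomial.mem_roots (FiniteField.X_pow_card_sub_X_ne_zero K hqn)]
        simp [sub_eq_zero, ← hσ y, hfix]
    rw [Finset.card_univ, hK, FiniteField.X_pow_card_sub_X_natDegree_eq K hqn] at hle
    exact absurd hle (not_le.2 (Nat.pow_lt_pow_right hq1 (by omega)))
  have hplus : r ∣ q ^ n + 1 := by
    have h1 : q ^ (2 * n) - 1 = (q ^ n + 1) * (q ^ n - 1) := by
      rw [mul_comm 2, pow_mul, ← Nat.sq_sub_sq, one_pow]
    rw [h1] at hr
    exact ((Fact.out : r.Prime).dvd_mul.1 hr).resolve_right hne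
  set α := ζ - ζ ^ (r - 1) with hα
  have hφα : φ α = G - G ^ (r - 1) := by rw [hα, map_sub, map_pow, hroot]
  have hαne : α ≠ 0 := by
    intro h
    have hA : G - G ^ (r - 1) = 0 := by rw [← hφα, h, map_zero]
    have hsym := twist_isSym hB hG hr2 hGr hfree
    refine hw (hsym.nd w fun y => ?_)
    show B ((G - G ^ (r - 1)) w) y = 0
    rw [hA, LinearMap.zero_apply, map_zero, LinearMap.zero_apply]
  have hσα : α ^ q ^ n = -α := by
    obtain ⟨c, hc⟩ := hplus
    have hc1 : 1 ≤ c := Nat.one_le_iff_ne_zero.2 fun h => by simp [h] at hc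
    have hz : ζ ^ q ^ n = ζ ^ (r - 1) := by
      have he : q ^ n = r * (c - 1) + (r - 1) := by
        have h1 : r * c = r * (c - 1) + r := by rw [← Nat.mul_succ]; congr 1; omega
        have := (Fact.out : r.Prime).one_le
        omega
      rw [he, pow_add, pow_mul, hζr, one_pow, one_mul]
    rw [← hσ, hα, map_sub, map_pow, hσ, hz, ← pow_mul]
    have he : ζ ^ ((r - 1) * (r - 1)) = ζ := by
      have h3 : 3 ≤ r := by
        have := (Fact.out : r.Prime).two_le
        obtain ⟨i, hi⟩ := hr2; omega
      obtain ⟨i, rfl⟩ : ∃ i, r = i + 2 := ⟨r - 2, by omega⟩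
      rw [show (i + 2 - 1) * (i + 2 - 1) = (i + 2) * i + 1 by
        rw [show i + 2 - 1 = i + 1 by omega]; ring, pow_succ, pow_mul, hζr, one_pow, one_mul]
    rw [he, neg_sub]
  -- parity
  have hqodd : Odd q := by
    rw [Nat.odd_iff]
    refine FiniteField.odd_card_of_char_ne_two fun hc => h2 ?_
    have := ringChar.charP F
    have := CharP.cast_eq_zero F (ringChar F)
    rw [hc] at this; exact_mod_cast this
  obtain ⟨m, hm⟩ : ∃ m, q ^ n = 2 * m + 1 := hqodd.pow
  have hminus : α ^ (2 * m) = -1 := by
    refine mul_right_cancel₀ hαne ?_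
    rw [← pow_succ, ← hm, hσα, neg_one_mul]
  have hm_odd : Odd m := by
    rw [← Nat.not_even_iff_odd]
    intro hmev
    obtain ⟨c, hc⟩ := hdet
    rw [← hφα, hnorm] at hc
    have hN := FiniteField.algebraMap_norm_eq_pow (K := F) (x := α)
    rw [Nat.card_eq_fintype_card, Nat.card_eq_fintype_card, hK, hc] at hN
    have hc0 : c ≠ 0 := by
      intro h
      rw [h, mul_zero, map_zero] at hN
      exact hαne (eq_zero_of_pow_eq_zero hN.symm)
    obtain ⟨t, ht⟩ := hqodd
    obtain ⟨D, hD⟩ : q - 1 ∣ q ^ (2 * n) - 1 := Nat.sub_one_dvd_pow_sub_one q (2 * n)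
    rw [hD, Nat.mul_div_cancel_left _ (by omega)] at hN
    have hct : c ^ (2 * t) = 1 := by
      rw [show 2 * t = q - 1 by omega]
      exact FiniteField.pow_card_sub_one_eq_one c hc0
    have h1 : α ^ (t * D) = 1 := by
      rw [mul_comm, pow_mul, ← hN, ← map_pow, ← sq, ← pow_mul, hct, map_one]
    have e : q ^ (2 * n) - 1 = 2 * (2 * m * (m + 1)) := by
      have : q ^ (2 * n) = (2 * m + 1) * (2 * m + 1) := by rw [two_mul, pow_add, hm]
      rw [this, show (2 * m + 1) * (2 * m + 1) = 2 * (2 * m * (m + 1)) + 1 by ring, Nat.add_sub_cancel]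
    have htD : t * D = 2 * m * (m + 1) := by
      have hD2 : q ^ (2 * n) - 1 = 2 * (t * D) := by
        rw [hD, show q - 1 = 2 * t by omega]; ring
      omega
    rw [htD, pow_mul, hminus, (hmev.add_one).neg_one_pow] at h1
    have h2K : (2 : K) ≠ 0 := by
      rw [← map_ofNat (algebraMap F K) 2]
      exact (map_ne_zero (algebraMap F K)).2 h2
    exact h2K (by linear_combination -h1)
  refine ⟨φ (α ^ m), ?_, ?_, ?_⟩
  · rw [← hroot]
    exact (Commute.all _ _).map φ
  · rw [← map_mul, ← pow_add, ← two_mul, hminus, map_neg, map_one]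
  · have hsym := twist_isSym hB hG hr2 hGr hfree
    have hskew : ∀ u v, B (φ α u) v = -B u (φ α v) := fun u v => by
      rw [hφα]
      have h := hsym.sym v u
      rw [twist_apply, twist_apply] at h
      simp only [LinearMap.sub_apply]
      rw [h, hB.sym (G v - (G ^ (r - 1)) v) u]
      ring
    have hskm : ∀ (i : ℕ) u v, B (φ (α ^ i) u) v = (-1) ^ i * B u (φ (α ^ i) v) := by
      intro i
      induction i with
      | zero => intro u v; simp
      | succ i ih =>
        intro u v
        have e1 : φ (α ^ (i + 1)) = φ α * φ (α ^ i) := by rw [pow_succ', map_mul]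
        have e2 : φ (α ^ (i + 1)) = φ (α ^ i) * φ α := by rw [pow_succ, map_mul]
        conv_lhs => rw [e1, Module.End.mul_apply, hskew, ih]
        conv_rhs => rw [e2, Module.End.mul_apply]
        ring
    intro u v
    rw [hskm, ← Module.End.mul_apply, ← map_mul, ← pow_add, ← two_mul, hminus, map_neg, map_one,
      hm_odd.neg_one_pow, LinearMap.neg_apply, Module.End.one_apply, map_neg]
    ring

/-- An invariant subspace of dimension `n` is totally singular. -/
theorem invariant_singular (h2 : (2 : F) ≠ 0) (hB : IsSymF (1 : F) B) (hG : G ∈ isoMon B)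
    (hn : 0 < n) (hV : finrank F V = 2 * n) (hr2 : Odd r) (hGr : G ^ r = 1)
    (hfree : ∀ x, G x = x → x = 0)
    (hno : ∀ j, 1 ≤ j → j < n → ¬ r ∣ Fintype.card F ^ (2 * j) - 1) {U : Submodule F V}
    (hU : ∀ x ∈ U, G x ∈ U) (hd : finrank F U = n) (hnodd : Odd n) :
    ∀ x ∈ U, ∀ y ∈ U, B x y = 0 := by
  have hsym := twist_isSym hB hG hr2 hGr hfree
  have halt := hsym.alt h2
  set C := restF (twist B G r) U with hC
  have hAU : ∀ x ∈ U, (G - G ^ (r - 1)) x ∈ U := by
    intro x hx
    have hp : ∀ j, (G ^ j) x ∈ U := by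
      intro j
      induction j with
      | zero => simpa using hx
      | succ j ih => rw [pow_succ', Module.End.mul_apply]; exact hU _ ih
    rw [LinearMap.sub_apply]
    exact sub_mem (hU x hx) (hp _)
  let R : Submodule F V := (LinearMap.ker C).map U.subtype
  have hR : ∀ x ∈ R, G x ∈ R := by
    rintro x ⟨u, hu, rfl⟩
    refine ⟨⟨G u, hU u u.2⟩, ?_, rfl⟩
    rw [SetLike.mem_coe, LinearMap.mem_ker] at hu ⊢
    refine LinearMap.ext fun y => ?_
    have hp : ∀ j, (G ^ j) (y : V) ∈ U := by
      intro j
      induction j with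
      | zero => simp
      | succ j ih => rw [pow_succ', Module.End.mul_apply]; exact hU _ ih
    show twist B G r (G u) (y : V) = 0
    rw [show (y : V) = G ((G ^ (r - 1)) (y : V)) by
      rw [← Module.End.mul_apply, ← pow_succ', Nat.sub_add_cancel hr2.pos, hGr, Module.End.one_apply],
      mem_twist_of_commute hG (Commute.refl G) r]
    exact LinearMap.congr_fun hu ⟨_, hp _⟩
  have hfin : finrank F R = finrank F (LinearMap.ker C) :=
    Submodule.finrank_map_subtype_eq U (LinearMap.ker C)
  have hkle := Submodule.finrank_le (LinearMap.ker C)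
  have hker : LinearMap.ker C = ⊤ := by
    have hev := Forms.even_finrank_sub_ker C fun x => halt (x : V)
    rw [hd, ← hfin] at hev
    refine Submodule.eq_top_of_finrank_eq ?_
    rw [← hfin, hd]
    rcases invariant_dim hV hGr hfree hno hR with h | h | ⟨h, -⟩
    · rw [h, Nat.sub_zero] at hev
      exact absurd hev (Nat.not_even_iff_odd.2 hnodd)
    · omega
    · exact h
  have hinj : Function.Injective ((G - G ^ (r - 1)).restrict hAU) := by
    rw [injective_iff_map_eq_zero]
    intro x hx
    refine Subtype.ext (hsym.nd (x : V) fun y => ?_)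
    show B ((G - G ^ (r - 1)) (x : V)) y = 0
    rw [show (G - G ^ (r - 1)) (x : V) = 0 from congrArg Subtype.val hx, map_zero,
      LinearMap.zero_apply]
  intro x hx y hy
  obtain ⟨z, hz⟩ := (LinearMap.injective_iff_surjective.1 hinj) ⟨x, hx⟩
  rw [← show (G - G ^ (r - 1)) (z : V) = x from congrArg Subtype.val hz]
  exact LinearMap.congr_fun (LinearMap.mem_ker.1 (hker ▸ Submodule.mem_top : z ∈ LinearMap.ker C))
    ⟨y, hy⟩

/-- An invariant complement. -/
theorem exists_invariant_compl (hrF : (r : F) ≠ 0) (hGr : G ^ r = 1) {U : Submodule F V}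
    (hU : ∀ x ∈ U, G x ∈ U) :
    ∃ P : Module.End F V, Commute P G ∧ (∀ x, P x ∈ U) ∧ ∀ x ∈ U, P x = x := by
  obtain ⟨U', hU'⟩ := Submodule.exists_isCompl U
  set P0 : Module.End F V := U.subtype ∘ₗ U.projectionOnto U' hU' with hP0
  have hfix : ∀ x ∈ U, P0 x = x := fun x hx => by
    rw [hP0, LinearMap.comp_apply, Submodule.subtype_apply,
      Submodule.projectionOnto_apply_left hU' ⟨x, hx⟩]
  have hp : ∀ j, ∀ x ∈ U, (G ^ j) x ∈ U := by
    intro j
    induction j with
    | zero => intro x hx; simpa using hx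
    | succ j ih => intro x hx; rw [pow_succ', Module.End.mul_apply]; exact hU _ (ih x hx)
  refine ⟨(r : F)⁻¹ • ∑ i ∈ Finset.range r, G ^ i * P0 * G ^ (r - i), ?_, fun x => ?_,
    fun x hx => ?_⟩
  · refine Commute.smul_left ?_ _
    show (∑ i ∈ Finset.range r, G ^ i * P0 * G ^ (r - i)) * G =
      G * ∑ i ∈ Finset.range r, G ^ i * P0 * G ^ (r - i)
    rw [Finset.sum_mul, Finset.mul_sum]
    have e : ∀ i, i < r → G * (G ^ i * P0 * G ^ (r - i)) = G ^ (i + 1) * P0 * G ^ (r - (i + 1)) * G :=
      fun i hi => by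
        rw [show r - i = r - (i + 1) + 1 by omega, pow_succ, pow_succ']
        simp only [mul_assoc]
    refine Eq.symm ((Finset.sum_congr rfl fun i hi => e i (Finset.mem_range.1 hi)).trans ?_)
    have h0 : G ^ r * P0 * G ^ (r - r) * G = G ^ 0 * P0 * G ^ (r - 0) * G := by
      rw [hGr, Nat.sub_self, pow_zero, Nat.sub_zero, hGr]
    have h1 := Finset.sum_range_succ' (fun i => G ^ i * P0 * G ^ (r - i) * G) r
    have h2 := Finset.sum_range_succ (fun i => G ^ i * P0 * G ^ (r - i) * G) r
    rw [h2] at h1
    rw [h0] at h1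
    exact (add_right_cancel h1).symm
  · rw [LinearMap.smul_apply, LinearMap.sum_apply]
    refine U.smul_mem _ (Submodule.sum_mem _ fun i _ => ?_)
    rw [Module.End.mul_apply, Module.End.mul_apply]
    exact hp i _ (Submodule.coe_mem _)
  · rw [LinearMap.smul_apply, LinearMap.sum_apply]
    rw [Finset.sum_congr rfl (g := fun _ => x) fun i hi => by
      rw [Module.End.mul_apply, Module.End.mul_apply, hfix _ (hp _ x hx), ← Module.End.mul_apply,
        ← pow_add, Nat.add_sub_cancel' (Finset.mem_range.1 hi).le, hGr, Module.End.one_apply]]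
    rw [Finset.sum_const, Finset.card_range, ← Nat.cast_smul_eq_nsmul F, smul_smul,
      inv_mul_cancel₀ hrF, one_smul]

/-- The main existence statement. -/
theorem exists_sqrt_neg_one (h2 : (2 : F) ≠ 0) (hrF : (r : F) ≠ 0) (hB : IsSymF (1 : F) B)
    (hG : G ∈ isoMon B) (hn : 0 < n) (hV : finrank F V = 2 * n) (hr2 : Odd r) (hGr : G ^ r = 1)
    (hfree : ∀ x, G x = x → x = 0)
    (hno : ∀ j, 1 ≤ j → j < n → ¬ r ∣ Fintype.card F ^ (2 * j) - 1)
    {κ : Type*} [Fintype κ] [DecidableEq κ] (b : Basis κ F V) (hsq : IsSquare (gramB B b).det) :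
    ∃ T : Module.End F V, Commute T G ∧ T * T = -1 ∧ T ∈ isoMon B := by
  classical
  by_cases hred : ∃ U : Submodule F V, (∀ x ∈ U, G x ∈ U) ∧ finrank F U = n ∧ Odd n
  · obtain ⟨U, hU, hd, hnodd⟩ := hred
    obtain ⟨P, hPc, hPU, hPfix⟩ := exists_invariant_compl hrF hGr hU
    set U' := LinearMap.ker P with hU'def
    have hU' : ∀ x ∈ U', G x ∈ U' := fun x hx => by
      rw [hU'def, LinearMap.mem_ker] at hx ⊢
      rw [← Module.End.mul_apply, hPc.eq, Module.End.mul_apply, hx, map_zero]
    have hrange : LinearMap.range P = U :=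
      le_antisymm (by rintro x ⟨y, rfl⟩; exact hPU y) fun x hx => ⟨x, hPfix x hx⟩
    have hcompl : IsCompl U U' := by
      refine ⟨Submodule.disjoint_def.2 fun x hx hx' => (hPfix x hx).symm.trans (LinearMap.mem_ker.1 hx'),
        codisjoint_iff.2 (eq_top_iff.2 fun x _ => ?_)⟩
      rw [show x = P x + (x - P x) by abel]
      exact Submodule.add_mem_sup (hPU x)
        (LinearMap.mem_ker.2 (by rw [map_sub, hPfix _ (hPU x), sub_self]))
    have hd' : finrank F U' = n := by
      have := LinearMap.finrank_range_add_finrank_ker P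
      rw [hrange, hd, hV, ← hU'def] at this
      omega
    have hs := invariant_singular h2 hB hG hn hV hr2 hGr hfree hno hU hd hnodd
    have hs' := invariant_singular h2 hB hG hn hV hr2 hGr hfree hno hU' hd' hnodd
    -- the discriminant is `(-1)^n` up to squares
    let c : Basis (Fin n ⊕ Fin n) F V :=
      ((Module.finBasisOfFinrankEq F U hd).prod (Module.finBasisOfFinrankEq F U' hd')).map
        (Submodule.prodEquivOfIsCompl U U' hcompl)
    have hcl : ∀ i, c (.inl i) = (Module.finBasisOfFinrankEq F U hd i : V) := fun i => by simp [c]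
    have hcr : ∀ i, c (.inr i) = (Module.finBasisOfFinrankEq F U' hd' i : V) := fun i => by simp [c]
    have hblocks : gramB B c = Matrix.fromBlocks 0 (Matrix.of fun i j => B (c (.inl i)) (c (.inr j)))
        (Matrix.of fun i j => B (c (.inl i)) (c (.inr j))).transpose 0 := by
      ext (i | i) (j | j)
      · simp [gramB, hcl, hs _ (Submodule.coe_mem _) _ (Submodule.coe_mem _)]
      · simp [gramB]
      · simp [gramB, hB.sym (c (.inl j)) (c (.inr i))]
      · simp [gramB, hcr, hs' _ (Submodule.coe_mem _) _ (Submodule.coe_mem _)]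
    have hne := gram_det_ne_zero hB c
    rw [hblocks, det_anti_blocks, Fintype.card_fin, hnodd.neg_one_pow] at hne
    have hsqc : IsSquare (gramB B c).det := by
      have ek : gramB B c = (b.toMatrix c).transpose * gramB B b * b.toMatrix c := by
        ext i j
        conv_lhs => rw [gramB, Matrix.of_apply, ← b.sum_repr (c i), ← b.sum_repr (c j)]
        simp only [map_sum, map_smul, LinearMap.sum_apply, LinearMap.smul_apply, smul_eq_mul,
          Matrix.mul_apply, Matrix.transpose_apply, Basis.toMatrix_apply, gramB, Matrix.of_apply,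
          Finset.sum_mul, Finset.mul_sum]
        refine Finset.sum_congr rfl fun k _ => Finset.sum_congr rfl fun l _ => ?_
        ring
      obtain ⟨d, hd⟩ := hsq
      let eκ : κ ≃ (Fin n ⊕ Fin n) := b.indexEquiv c
      set Pm := (b.toMatrix c).submatrix eκ.symm id with hPm
      refine ⟨Pm.det * d, ?_⟩
      have e2 : gramB B c = Pm.transpose * (gramB B b).submatrix eκ.symm eκ.symm * Pm := by
        rw [hPm, Matrix.transpose_submatrix, Matrix.submatrix_mul_equiv, Matrix.submatrix_mul_equiv,
          ek]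
        rfl
      rw [e2, Matrix.det_mul, Matrix.det_mul, Matrix.det_transpose, Matrix.det_submatrix_equiv_self, hd]
      ring
    rw [hblocks, det_anti_blocks, Fintype.card_fin, hnodd.neg_one_pow] at hsqc
    obtain ⟨d, hd2⟩ := hsqc
    set y := (Matrix.of fun i j => B (c (.inl i)) (c (.inr j))).det
    obtain ⟨ι, hι⟩ : ∃ ι : F, ι * ι = -1 := ⟨d / y, by
      have hy : y ≠ 0 := fun h => hne (by rw [h]; ring)
      field_simp
      linear_combination -hd2⟩
    refine ⟨ι • (2 * P - 1), ?_, ?_, ?_⟩
    · exact ((((Commute.ofNat_left 2 G).mul_left hPc)).sub_left (Commute.one_left G)).smul_left ι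
    · have hPP : P * P = P := LinearMap.ext fun x => hPfix _ (hPU x)
      rw [smul_mul_smul_comm, hι]
      have : (2 * P - 1) * (2 * P - 1) = (1 : Module.End F V) := by
        simp only [two_mul, mul_sub, sub_mul, add_mul, mul_add, hPP, one_mul, mul_one]
        abel
      rw [this, neg_one_smul]
    · intro u v
      have hk : ∀ x, x - P x ∈ U' := fun x => LinearMap.mem_ker.2 (by
        rw [map_sub, hPfix _ (hPU x), sub_self])
      have hT : ∀ x, (ι • (2 * P - 1) : Module.End F V) x = ι • (P x - (x - P x)) := fun x => by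
        rw [LinearMap.smul_apply, LinearMap.sub_apply, Module.End.one_apply, two_mul,
          LinearMap.add_apply]
        congr 1; abel
      rw [hT, hT]
      have hu : B u v = B (P u + (u - P u)) (P v + (v - P v)) := by
        rw [add_sub_cancel, add_sub_cancel]
      rw [hu]
      simp only [map_smul, map_sub, map_add, LinearMap.smul_apply, LinearMap.sub_apply,
        LinearMap.add_apply, smul_eq_mul]
      have z1 := hs _ (hPU u) _ (hPU v)
      have z2 := hs' _ (hk u) _ (hk v)
      simp only [map_sub, LinearMap.sub_apply] at z2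
      linear_combination (ι * ι - 1) * z1 + (ι * ι - 1) * z2 + (0 : F) * hι -
        (B (P u) v - B (P u) (P v) + (B u (P v) - B (P u) (P v))) * hι
  · push Not at hred
    have hirr : ∀ X : Submodule F V, (∀ x ∈ X, G x ∈ X) → X = ⊥ ∨ X = ⊤ := by
      intro X hX
      rcases invariant_dim hV hGr hfree hno hX with h | h | ⟨h, h'⟩
      · exact .inl (Submodule.finrank_eq_zero.1 h)
      · exact .inr (Submodule.eq_top_of_finrank_eq (h.trans hV.symm))
      · exact absurd h' (hred X hX h)
    have hr := S2364.dvd_of_fixed_free G hGr (⊤ : Submodule F V) (fun x _ => Submodule.mem_top)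
      fun x _ => hfree x
    rw [finrank_top, hV] at hr
    refine sqrt_irreducible h2 hB hG hn hV hr2 hGr hfree hr ?_ hirr
    have hsym := twist_isSym hB hG hr2 hGr hfree
    obtain ⟨c, -, hc⟩ := S2362.det_alternating (twist B G r) (hsym.alt h2) hsym.nd hV b
    have hdet : (Matrix.of fun i j => twist B G r (b i) (b j)).det =
        LinearMap.det (G - G ^ (r - 1)) * (gramB B b).det := gram_comp B (G - G ^ (r - 1)) b
    rw [hc] at hdet
    obtain ⟨d, hd⟩ := hsq
    have hd0 : d ≠ 0 := fun h => gram_det_ne_zero hB b (by rw [hd, h, mul_zero])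
    refine ⟨c / d, ?_⟩
    rw [hd] at hdet
    field_simp
    linear_combination -hdet

end Core

end Cfsg.Agent.PrimeGraphBC
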