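/-
Order `2r` when `r` does not divide `|Sp_{2n-2}(q)|`: both simple groups have it or neither has.

* `det_sp` : symplectic matrices have determinant one
* `omega_invol_iff` : an involution lies in `Ω` iff its `-1`-space has square discriminant
* `pomega_of_psp`, `psp_of_pomega`
-/
import Cfsg.Agent.Lib.PrimeGraphBC.Small
import Cfsg.Agent.Lib.PrimeGraphBC.Sqrt
import Cfsg.Agent.Lib.Linear.Symplectic

set_option autoImplicit false
set_option linter.unusedSectionVars false
set_option linter.style.haveILetI false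

namespace Cfsg.Agent.PrimeGraphBC

open Cfsg Module
open QuadraticMap (polar)

variable {F : Type*} [Field F] [Fintype F]

theorem det_sp {n : ℕ} (hn : 3 ≤ n) (s : Matrix.symplecticGroup (Fin n) F) : s.1.det = 1 := by
  let f : Matrix.symplecticGroup (Fin n) F →* Fˣ :=
    ((Matrix.detMonoidHom : Matrix (Fin n ⊕ Fin n) (Fin n ⊕ Fin n) F →* F).comp
      (Matrix.symplecticGroup (Fin n) F).subtype).toHomUnits
  have h : s ∈ f.ker := Abelianization.commutator_subset_ker f (by
    rw [Linear.commutator_symplecticGroup_eq_top (.inr (.inr hn))]; trivial)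
  exact congrArg Units.val (MonoidHom.mem_ker.1 h)

theorem omega_invol_iff {ι : Type} [Fintype ι] [DecidableEq ι] {Q : QuadraticForm F (ι → F)}
    (hG : Orth.Good Q) (h2 : (2 : F) ≠ 0) {g : Orth.IsoGrp Q} {k : ℕ} (hk : Even k)
    (w : Fin k → ι → F) (hind : LinearIndependent F w)
    (hspan : Submodule.span F (Set.range w) = Orth.resSpace g)
    (hneg : ∀ i, Orth.ap g (w i) = -w i) (hne : (Orth.wallMat Q w w).det ≠ 0) :
    g ∈ Omega F ⇑Q ↔ IsSquare (Orth.wallMat Q w w).det := by
  classical
  have hdick : Orth.dick g = 1 := by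
    rw [Orth.dick, ← hspan, finrank_span_eq_card hind, Fintype.card_fin, hk.neg_one_pow]
  rw [Orth.mem_omega_iff hG, and_iff_right hdick]
  rw [Orth.spin_eq w (fun i => (-(2 : F)⁻¹) • w i) hind hspan fun i => by
    rw [map_smul, hneg, smul_neg, ← neg_smul, ← sub_smul,
      show -(-(2 : F)⁻¹) - -(2 : F)⁻¹ = 1 by field_simp; ring, one_smul]]
  have hM : Orth.wallMat Q w (fun i => (-(2 : F)⁻¹) • w i) = (-(2 : F)⁻¹) • Orth.wallMat Q w w := by
    ext i j; simp [Orth.wallMat, QuadraticMap.polar_smul_right]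
  obtain ⟨l, rfl⟩ := hk
  rw [hM, Matrix.det_smul, Fintype.card_fin, ← mul_assoc, ← mul_pow, neg_one_mul, neg_neg,
    show ((2 : F)⁻¹) ^ (l + l) = ((2 : F)⁻¹ ^ l) ^ 2 by rw [← pow_mul, mul_two], map_mul,
    quadraticChar_sq_one' (pow_ne_zero l (inv_ne_zero h2)), one_mul]
  exact quadraticChar_one_iff_isSquare hne

/-- The two eigenspaces of an involutive isometry. -/
theorem invol_split {V : Type*} [AddCommGroup V] [Module F V] [FiniteDimensional F V] {ε : F}
    (h2 : (2 : F) ≠ 0) {B : LinearMap.BilinForm F V} (hB : IsSymF ε B) {Z G : Module.End F V}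
    (hZ : Z ∈ isoMon B) (hZ2 : Z * Z = 1) (hc : Commute Z G) :
    IsCompl (LinearMap.ker (Z - 1)) (LinearMap.ker (Z + 1)) ∧
      IsSymF ε (restF B (LinearMap.ker (Z - 1))) ∧ IsSymF ε (restF B (LinearMap.ker (Z + 1))) ∧
      (∀ x ∈ LinearMap.ker (Z - 1), G x ∈ LinearMap.ker (Z - 1)) ∧
      (∀ x ∈ LinearMap.ker (Z + 1), G x ∈ LinearMap.ker (Z + 1)) := by
  have hP : ∀ x, x ∈ LinearMap.ker (Z - 1) ↔ Z x = x := fun x => by simp [sub_eq_zero]
  have hM : ∀ x, x ∈ LinearMap.ker (Z + 1) ↔ Z x = -x := fun x => by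
    simp [add_eq_zero_iff_eq_neg]
  have hzz : ∀ x, Z (Z x) = x := fun x => LinearMap.congr_fun hZ2 x
  have hcod : Codisjoint (LinearMap.ker (Z - 1)) (LinearMap.ker (Z + 1)) := by
    refine codisjoint_iff.2 (eq_top_iff.2 fun x _ => ?_)
    rw [show x = (2 : F)⁻¹ • (x + Z x) + (2 : F)⁻¹ • (x - Z x) by
      rw [← smul_add, show x + Z x + (x - Z x) = (2 : F) • x by rw [two_smul]; abel, smul_smul,
        inv_mul_cancel₀ h2, one_smul]]
    refine Submodule.add_mem_sup ((hP _).2 ?_) ((hM _).2 ?_)
    · rw [map_smul, map_add, hzz, add_comm]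
    · rw [map_smul, map_sub, hzz, ← smul_neg, neg_sub]
  have hdis : Disjoint (LinearMap.ker (Z - 1)) (LinearMap.ker (Z + 1)) := by
    refine Submodule.disjoint_def.2 fun x hx hx' => ?_
    have h : (2 : F) • x = 0 := by
      rw [two_smul]; nth_rw 1 [← (hP x).1 hx]; rw [(hM x).1 hx', neg_add_cancel]
    exact (smul_eq_zero.1 h).resolve_left h2
  have ho : ∀ x ∈ LinearMap.ker (Z - 1), ∀ y ∈ LinearMap.ker (Z + 1), B x y = 0 := by
    intro x hx y hy
    have h := hZ x y
    rw [(hP x).1 hx, (hM y).1 hy, map_neg] at h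
    exact (mul_eq_zero.1 (show (2 : F) * B x y = 0 by linear_combination -h)).resolve_left h2
  have hcx : ∀ x, Z (G x) = G (Z x) := fun x => LinearMap.congr_fun hc.eq x
  refine ⟨⟨hdis, hcod⟩, hB.restF_of_codisjoint hcod ho,
    hB.restF_of_codisjoint hcod.symm fun y hy x hx => by rw [hB.sym, ho x hx y hy, mul_zero],
    fun x hx => (hP _).2 ?_, fun x hx => (hM _).2 ?_⟩
  · rw [hcx, (hP x).1 hx]
  · rw [hcx, (hM x).1 hx, map_neg]

/-- One of the two restrictions has order `r`. -/
theorem split_prime {V : Type*} [AddCommGroup V] [Module F V] {G : Module.End F V} {r : ℕ}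
    (hr : r.Prime) (hG : orderOf G = r) {W U : Submodule F V} (hWU : Codisjoint W U)
    (hW : ∀ x ∈ W, G x ∈ W) (hU : ∀ x ∈ U, G x ∈ U) :
    orderOf (G.restrict hW : Module.End F W) = r ∨ orderOf (G.restrict hU : Module.End F U) = r := by
  have h := orderOf_split hWU hW hU
  rw [hG] at h
  have h1 : orderOf (G.restrict hW : Module.End F W) ∣ r := h.symm ▸ Nat.dvd_lcm_left _ _
  have h2 : orderOf (G.restrict hU : Module.End F U) ∣ r := h.symm ▸ Nat.dvd_lcm_right _ _
  rcases (Nat.dvd_prime hr).1 h1 with h1 | h1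
  · rcases (Nat.dvd_prime hr).1 h2 with h2 | h2
    · rw [h1, h2] at h
      exact absurd h hr.ne_one
    · exact .inr h2
  · exact .inl h1

/-- From `PSp` to `PΩ`. -/
theorem pomega_of_psp (h2 : (2 : F) ≠ 0) {n r : ℕ} (hn : 3 ≤ n) (hr : r.Prime) (hr2 : Odd r)
    (hD : ¬ r ∣ Nat.card (Matrix.symplecticGroup (Fin (n - 1)) F))
    (h : r * 2 ∈ Set.range (orderOf : PSp n F → ℕ)) :
    r * 2 ∈ Set.range (orderOf : POmega F (quadFormOdd n F) → ℕ) := by
  classical
  obtain ⟨s, g, hsg, hg, hs2, hs⟩ := (psp_two_mul_iff hr hr2).1 h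
  rw [pomega_two_mul_iff hn h2 hr hr2]
  haveI := Fact.mk hr
  obtain ⟨S, hSdef⟩ : ∃ S : Module.End F (Fin n ⊕ Fin n → F),
      S = ((spAct n F s : isoMon (GLOrder.sympB n F)) : Module.End F _) := ⟨_, rfl⟩
  obtain ⟨G, hGdef⟩ : ∃ G : Module.End F (Fin n ⊕ Fin n → F),
      G = ((spAct n F g : isoMon (GLOrder.sympB n F)) : Module.End F _) := ⟨_, rfl⟩
  have hS : S ∈ isoMon (GLOrder.sympB n F) := hSdef ▸ (spAct n F s).2
  have hG : G ∈ isoMon (GLOrder.sympB n F) := hGdef ▸ (spAct n F g).2
  have hSG : Commute S G := by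
    rw [hSdef, hGdef]
    exact congrArg Subtype.val ((hsg.map (spAct n F)).eq)
  have hGord : orderOf G = r := hGdef ▸ (orderOf_spAct g).trans hg
  have hsym := sympB_isSym (F := F) n
  have hdim : finrank F (Fin n ⊕ Fin n → F) = 2 * n := GLOrder.finrank_sympSpace
  rcases GLOrder.center_Sp.1 hs2 with h1 | h1
  · -- `S` is an involution: impossible
    exfalso
    have hS2 : S * S = 1 := by
      have := congrArg Matrix.toLinAlgEquiv' h1
      rw [map_one] at this
      rw [hSdef]
      exact (map_mul Matrix.toLinAlgEquiv' s.1 s.1).symm.trans this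
    obtain ⟨hcompl, hP, hM, hGP, hGM⟩ := invol_split h2 hsym hS hS2 hSG
    have hsum := Submodule.finrank_add_eq_of_isCompl hcompl
    have hS1 : ∀ (t : F), (∀ x, S x = t • x) → s.1 = t • (1 : Matrix _ _ F) := by
      intro t ht
      apply Matrix.toLinAlgEquiv'.injective
      rw [map_smul, map_one]
      exact LinearMap.ext fun x => by
        have := ht x
        rw [hSdef] at this
        exact this
    have hP0 : LinearMap.ker (S - 1) ≠ ⊥ := by
      intro h0
      refine hs (GLOrder.center_Sp.2 (.inr ?_))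
      rw [hS1 (-1) fun x => ?_, neg_one_smul]
      have hx : S x + x ∈ LinearMap.ker (S - 1) := by
        have := LinearMap.congr_fun hS2 x
        rw [Module.End.mul_apply, Module.End.one_apply] at this
        simp [this, add_comm]
      rw [h0, Submodule.mem_bot] at hx
      rw [neg_one_smul]; exact eq_neg_of_add_eq_zero_left hx
    have hM0 : LinearMap.ker (S + 1) ≠ ⊥ := by
      intro h0
      refine hs (GLOrder.center_Sp.2 (.inl ?_))
      rw [hS1 1 fun x => ?_, one_smul]
      have hx : S x - x ∈ LinearMap.ker (S + 1) := by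
        have := LinearMap.congr_fun hS2 x
        rw [Module.End.mul_apply, Module.End.one_apply] at this
        simp [this]
      rw [h0, Submodule.mem_bot] at hx
      rw [one_smul]; exact sub_eq_zero.1 hx
    have hP1 := Nat.one_le_iff_ne_zero.2 fun h0 => hP0 (Submodule.finrank_eq_zero.1 h0)
    have hM1 := Nat.one_le_iff_ne_zero.2 fun h0 => hM0 (Submodule.finrank_eq_zero.1 h0)
    obtain ⟨a, ha⟩ := (hP.even_finrank h2).exists_two_nsmul
    obtain ⟨b, hb⟩ := (hM.even_finrank h2).exists_two_nsmul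
    rw [smul_eq_mul] at ha hb
    rcases split_prime hr hGord hcompl.codisjoint hGP hGM with h' | h'
    · have := (spHas_of h2 hP ha (restrict_mem hG hGP)).dvd
      rw [h'] at this
      exact hD (dvd_card_Sp_mono (by omega) this)
    · have := (spHas_of h2 hM hb (restrict_mem hG hGM)).dvd
      rw [h'] at this
      exact hD (dvd_card_Sp_mono (by omega) this)
  · -- `S² = -1`
    have hS2 : S * S = -1 := by
      have := congrArg Matrix.toLinAlgEquiv' h1
      rw [map_neg, map_one] at this
      rw [hSdef]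
      exact (map_mul Matrix.toLinAlgEquiv' s.1 s.1).symm.trans this
    have hSS : ∀ x, S (S x) = -x := fun x => LinearMap.congr_fun hS2 x
    let B' : LinearMap.BilinForm F (Fin n ⊕ Fin n → F) :=
      (GLOrder.sympB n F).compl₁₂ S LinearMap.id
    have hB'ap : ∀ u v, B' u v = GLOrder.sympB n F (S u) v := fun u v => rfl
    have hB' : IsSymF (1 : F) B' := by
      refine ⟨fun u v => ?_, fun u hu => ?_⟩
      · rw [one_mul, hB'ap, hB'ap, hsym.sym u (S v), ← hS u (S v), hSS, map_neg]
        ring
      · have h0 := hsym.nd _ hu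
        rw [← neg_eq_zero, ← hSS, h0, map_zero]
    have hSB' : S ∈ isoMon B' := fun u v => by rw [hB'ap, hB'ap, hS]
    have hGB' : G ∈ isoMon B' := fun u v => by
      rw [hB'ap, hB'ap, show S (G u) = G (S u) from LinearMap.congr_fun hSG.eq u, hG]
    have hsymV := hB'.prod (mul_isSym (F := F))
    obtain ⟨e, c, φ, hc, hB, hap, hφ⟩ := oModel_exists h2 hsymV (m := n)
      (by rw [Module.finrank_prod, hdim, Module.finrank_self])
    set zz : isoMon (prodForm B' (LinearMap.mul F F)) :=
      ⟨_, prodMap_mem (neg_one_mem B') (one_mem _)⟩ with hzz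
    set gg : isoMon (prodForm B' (LinearMap.mul F F)) :=
      ⟨_, prodMap_mem hGB' (one_mem _)⟩ with hgg
    have hgord : orderOf (φ gg) = r := by
      rw [orderOf_injective φ hφ, hgg, isoMon_orderOf, orderOf_prodMap, orderOf_one,
        Nat.lcm_one_right, hGord]
    have hzcomm : Commute zz gg := by
      apply Subtype.ext
      refine LinearMap.ext fun x => Prod.ext ?_ ?_
      · simp [zz, gg]
      · simp [zz, gg]
    have hzord : orderOf (φ zz) = 2 := by
      rw [orderOf_injective φ hφ]
      refine orderOf_eq_prime ?_ fun h0 => ?_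
      · rw [sq]
        exact Subtype.ext (LinearMap.ext fun x => Prod.ext (by simp [zz]) (by simp [zz]))
      · have h4 := congrFun (congrArg Prod.fst (LinearMap.congr_fun (congrArg Subtype.val h0)
          ((Pi.single (.inl ⟨0, by omega⟩) 1 : Fin n ⊕ Fin n → F), (0 : F)))) (.inl ⟨0, by omega⟩)
        simp [zz] at h4
        exact h2 (by linear_combination -h4)
    refine ⟨φ zz, φ gg, ?_, mem_omega_of_odd h2 hr2 (hgord ▸ pow_orderOf_eq_one _),
      hzcomm.map φ, hzord, hgord⟩
    set b := Module.finBasisOfFinrankEq F (Fin n ⊕ Fin n → F) hdim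
    let w : Fin (2 * n) → Unit ⊕ (Fin n ⊕ Fin n) → F := fun i => e.symm (b i, 0)
    have hneg : ∀ i, Orth.ap (φ zz) (w i) = -w i := fun i => by
      rw [hap, ← map_neg]
      simp [w, zz]
    have hind : LinearIndependent F w := by
      have h0 := (b.linearIndependent.map' (LinearMap.inl F _ F) (LinearMap.ker_eq_bot.2 LinearMap.inl_injective)).map'
        e.symm.toLinearMap (LinearEquiv.ker e.symm)
      exact h0
    have hspan : Submodule.span F (Set.range w) = Orth.resSpace (φ zz) := by
      refine le_antisymm (Submodule.span_le.2 ?_) fun v hv => ?_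
      · rintro _ ⟨i, rfl⟩
        refine Orth.mem_resSpace.2 ⟨(-(2 : F)⁻¹) • w i, ?_⟩
        rw [map_smul, hneg, smul_neg, ← neg_smul, ← sub_smul,
          show -(-(2 : F)⁻¹) - -(2 : F)⁻¹ = 1 by field_simp; ring, one_smul]
      · obtain ⟨x, rfl⟩ := Orth.mem_resSpace.1 hv
        have hx : Orth.ap (φ zz) x - x = ∑ i, b.repr (-(2 : F) • (e x).1) i • w i := by
          have h0 : ∑ i, b.repr (-(2 : F) • (e x).1) i • w i =
              e.symm (∑ i, b.repr (-(2 : F) • (e x).1) i • (b i, (0 : F))) := by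
            rw [map_sum]; exact Finset.sum_congr rfl fun i _ => (map_smul e.symm _ _).symm
          rw [h0, hap]
          apply e.injective
          rw [map_sub, e.apply_symm_apply, e.apply_symm_apply]
          refine Prod.ext ?_ ?_
          · rw [Prod.fst_sum]
            simp only [Prod.smul_fst, b.sum_repr]
            simp [zz, two_smul]
            abel
          · rw [Prod.snd_sum]; simp [zz]
        rw [hx]
        exact Submodule.sum_mem _ fun i _ =>
          Submodule.smul_mem _ _ (Submodule.subset_span (Set.mem_range_self i))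
    have hW : Orth.wallMat (Orth.quadOdd n F) w w = c⁻¹ • gramB B' b := by
      ext i j
      have h0 := hB (w i) (w j)
      simp only [w, LinearEquiv.apply_symm_apply, prodForm_apply] at h0
      simp only [map_zero, LinearMap.zero_apply, add_zero] at h0
      simp only [Orth.wallMat, gramB, Matrix.of_apply, Matrix.smul_apply, smul_eq_mul, w]
      rw [h0]
      field_simp
    obtain ⟨d, hd0, hd⟩ := S2362.det_alternating (GLOrder.sympB n F) GLOrder.sympB_self
      GLOrder.sympB_nondeg hdim b
    have hdetS : LinearMap.det S = 1 := by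
      rw [hSdef]
      exact (LinearMap.det_toLin' s.1).trans (det_sp hn s)
    have hgram : (gramB B' b).det = d ^ 2 := by
      rw [show gramB B' b = Matrix.of fun i j => GLOrder.sympB n F (S (b i)) (b j) from rfl,
        gram_comp, hdetS, one_mul]
      exact hd
    have hdet : (Orth.wallMat (Orth.quadOdd n F) w w).det = (c⁻¹ ^ n * d) ^ 2 := by
      rw [hW, Matrix.det_smul, Fintype.card_fin, hgram]; ring
    rw [omega_invol_iff (good_quadOdd n h2) h2 (even_two_mul n) w hind hspan hneg
      (by rw [hdet]; exact pow_ne_zero 2 (mul_ne_zero (pow_ne_zero n (inv_ne_zero hc)) hd0)), hdet]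
    exact IsSquare.sq _

/-- From `PΩ` to `PSp`. -/
theorem psp_of_pomega (h2 : (2 : F) ≠ 0) {n r : ℕ} (hn : 3 ≤ n) (hr : r.Prime) (hr2 : Odd r)
    (hD : ¬ r ∣ Nat.card (Matrix.symplecticGroup (Fin (n - 1)) F))
    (h : r * 2 ∈ Set.range (orderOf : POmega F (quadFormOdd n F) → ℕ)) :
    r * 2 ∈ Set.range (orderOf : PSp n F → ℕ) := by
  classical
  obtain ⟨z, g, hzO, -, hzg, hz, hg⟩ := (pomega_two_mul_iff hn h2 hr hr2).1 h
  rw [psp_two_mul_iff hr hr2]
  haveI := Fact.mk hr
  obtain ⟨Z, hZdef⟩ : ∃ Z : Module.End F (Unit ⊕ (Fin n ⊕ Fin n) → F),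
      Z = ((oAct _ z : isoMon (Orth.quadOdd n F).polarBilin) : Module.End F _) := ⟨_, rfl⟩
  obtain ⟨G, hGdef⟩ : ∃ G : Module.End F (Unit ⊕ (Fin n ⊕ Fin n) → F),
      G = ((oAct _ g : isoMon (Orth.quadOdd n F).polarBilin) : Module.End F _) := ⟨_, rfl⟩
  have hZ : Z ∈ isoMon (Orth.quadOdd n F).polarBilin := hZdef ▸ (oAct _ z).2
  have hG : G ∈ isoMon (Orth.quadOdd n F).polarBilin := hGdef ▸ (oAct _ g).2
  have hGord : orderOf G = r := hGdef ▸ (orderOf_oAct g).trans hg
  have hZord : orderOf Z = 2 := hZdef ▸ (orderOf_oAct z).trans hz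
  have hZ2 : Z * Z = 1 := by rw [← sq, ← hZord, pow_orderOf_eq_one]
  have hZG : Commute Z G := by
    rw [hZdef, hGdef]
    exact congrArg Subtype.val ((hzg.map (oAct (Orth.quadOdd n F))).eq)
  obtain ⟨hcompl, hP, hM, hGP, hGM⟩ := invol_split h2 (polar_isSym n h2) hZ hZ2 hZG
  have hsum := Submodule.finrank_add_eq_of_isCompl hcompl
  rw [finrank_oddSpace] at hsum
  have hZap : ∀ x, Z x = Orth.ap z x := fun x => by rw [hZdef]; rfl
  have hres : LinearMap.ker (Z + 1) = Orth.resSpace z := by
    ext v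
    rw [LinearMap.mem_ker, LinearMap.add_apply, Module.End.one_apply, Orth.mem_resSpace]
    constructor
    · intro hv
      refine ⟨(-(2 : F)⁻¹) • v, ?_⟩
      rw [← hZap, map_smul, eq_neg_of_add_eq_zero_left hv, smul_neg, ← neg_smul, ← sub_smul,
        show -(-(2 : F)⁻¹) - -(2 : F)⁻¹ = 1 by field_simp; ring, one_smul]
    · rintro ⟨x, rfl⟩
      have := LinearMap.congr_fun hZ2 x
      rw [Module.End.mul_apply, Module.End.one_apply] at this
      rw [← hZap, map_sub, this]
      abel
  obtain ⟨hdick, -⟩ := (Orth.mem_omega_iff (good_quadOdd n h2) z).1 hzO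
  have hev : Even (finrank F (LinearMap.ker (Z + 1))) := by
    rw [Orth.dick, ← hres] at hdick
    exact (neg_one_pow_eq_one_iff_even (by norm_num)).1 hdick
  obtain ⟨k, hk⟩ := hev.exists_two_nsmul
  rw [smul_eq_mul] at hk
  have hk1 : 1 ≤ k := by
    by_contra h0
    have hbot : LinearMap.ker (Z + 1) = ⊥ := Submodule.finrank_eq_zero.1 (by omega)
    have hZ1 : Z = 1 := LinearMap.ext fun x => by
      have hx : Z x - x ∈ LinearMap.ker (Z + 1) := by
        have := LinearMap.congr_fun hZ2 x
        rw [Module.End.mul_apply, Module.End.one_apply] at this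
        simp [this]
      rw [hbot, Submodule.mem_bot] at hx
      exact sub_eq_zero.1 hx
    rw [hZ1, orderOf_one] at hZord
    omega
  have hGM' := restrict_mem hG hGM
  have hM' : orderOf (G.restrict hGM : Module.End F (LinearMap.ker (Z + 1))) = r := by
    refine (split_prime hr hGord hcompl.codisjoint hGP hGM).resolve_left fun h' => ?_
    have := (oHas_of h2 hP (m := n - k) (by omega) (restrict_mem hG hGP)).dvd
    rw [h', dvd_card_O h2 hr2] at this
    exact hD (dvd_card_Sp_mono (by omega) this)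
  have hkn : k = n := by
    by_contra hne
    have := (oHas_of h2 (hM.prod (mul_isSym (F := F))) (m := k)
      (by rw [Module.finrank_prod, hk, Module.finrank_self])
      (prodMap_mem hGM' (one_mem _))).dvd
    rw [orderOf_prodMap, orderOf_one, Nat.lcm_one_right, hM', dvd_card_O h2 hr2] at this
    exact hD (dvd_card_Sp_mono (by omega) this)
  rw [hkn] at hk
  set M := LinearMap.ker (Z + 1) with hMdef
  set G' : Module.End F M := G.restrict hGM with hG'
  have hGr : G' ^ r = 1 := hM' ▸ pow_orderOf_eq_one G'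
  have hrF := natCast_ne_zero h2 hr (by omega : 2 ≤ n) hD
  -- `G'` is fixed-point-free
  have hfree : ∀ x, G' x = x → x = 0 := by
    obtain ⟨p, hp⟩ := CharP.exists F
    haveI : Fact p.Prime := ⟨CharP.char_is_prime F p⟩
    obtain ⟨W, U, hW, hU, N, -, hBW, -, hsum', hlcm, hfreeW, hunip, hfix⟩ :=
      exists_split hM hGM' p hr.pos hGr
    have hU1 : orderOf (G'.restrict hU : Module.End F U) = 1 := by
      refine (unip_cases hU p (Irreducible.squarefree hr) hGr hunip).resolve_right fun h' => ?_
      have hpd : p ∣ r := by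
        rw [← h'.1]
        exact orderOf_dvd_of_pow_eq_one
          (LinearMap.ext fun x => Subtype.ext (by rw [restrict_pow_coe, hGr]; rfl))
      exact hrF ((CharP.cast_eq_zero_iff F p r).2 hpd)
    rw [hM', hU1, Nat.lcm_one_right] at hlcm
    have hgW := restrict_mem hGM' hW
    have hgWr : (G'.restrict hW : Module.End F W) ^ r = 1 :=
      LinearMap.ext fun x => Subtype.ext (by rw [restrict_pow_coe, hGr]; rfl)
    have hnew := twist_isSym hBW hgW hr2 hgWr fun x hx =>
      Subtype.ext (hfreeW x x.2 (congrArg Subtype.val hx))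
    obtain ⟨m, hm⟩ := (hnew.even_finrank h2).exists_two_nsmul
    rw [smul_eq_mul] at hm
    have hd := (spHas_of h2 hnew hm (mem_twist_of_commute hgW (Commute.refl _) r)).dvd
    rw [← hlcm] at hd
    have hmn : m = n := by
      by_contra hne
      exact hD (dvd_card_Sp_mono (by omega) hd)
    intro x hx
    have hUbot : U = ⊥ := Submodule.finrank_eq_zero.1 (by omega)
    have := hfix x hx
    rwa [hUbot, Submodule.mem_bot] at this
  set b := Module.finBasisOfFinrankEq F M hk
  have hsq : IsSquare (gramB (restF (Orth.quadOdd n F).polarBilin M) b).det := by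
    refine (omega_invol_iff (good_quadOdd n h2) h2 (even_two_mul n) (fun i => (M.subtype (b i) : Unit ⊕ (Fin n ⊕ Fin n) → F))
      (b.linearIndependent.map' M.subtype (Submodule.ker_subtype M)) ?_ ?_
      (gram_det_ne_zero hM b)).1 hzO
    · rw [← hres, show (fun i => M.subtype (b i)) = M.subtype ∘ b from rfl,
        Set.range_comp, ← Submodule.map_span, b.span_eq, Submodule.map_subtype_top]
    · intro i
      have hi := LinearMap.mem_ker.1 (b i).2
      rw [LinearMap.add_apply, Module.End.one_apply] at hi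
      rw [← hZap]
      exact eq_neg_of_add_eq_zero_left hi
  obtain ⟨T, hTc, hT2, hTB⟩ := exists_sqrt_neg_one h2 hrF hM hGM' (by omega) hk hr2 hGr hfree
    (not_dvd_pow_sub_one hD) b hsq
  have hA := twist_isSym hM hGM' hr2 hGr hfree
  obtain ⟨φ, hφ, hφneg⟩ := spHom_exists h2 hA (m := n) hk
  set tt : isoMon (twist (restF (Orth.quadOdd n F).polarBilin M) G' r) :=
    ⟨T, mem_twist_of_commute hTB hTc r⟩ with htt
  set gg : isoMon (twist (restF (Orth.quadOdd n F).polarBilin M) G' r) :=
    ⟨G', mem_twist_of_commute hGM' (Commute.refl _) r⟩ with hgg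
  have hTT : (φ tt * φ tt).1 = -1 := by
    rw [← map_mul, ← hφneg]
    congr 2
    exact Subtype.ext hT2
  refine ⟨φ tt, φ gg, (show Commute tt gg from Subtype.ext hTc.eq).map φ, ?_,
    GLOrder.center_Sp.2 (.inr hTT), fun hc => ?_⟩
  · rw [orderOf_injective φ hφ, hgg, isoMon_orderOf, hM']
  · have h1 : (φ tt * φ tt).1 = 1 := by
      show (φ tt).1 * (φ tt).1 = 1
      rcases GLOrder.center_Sp.1 hc with h | h <;> simp [h]
    rw [hTT] at h1
    have := congrFun (congrFun h1 (.inl ⟨0, by omega⟩)) (.inl ⟨0, by omega⟩)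
    simp at this
    exact h2 (by linear_combination -this)

end Cfsg.Agent.PrimeGraphBC
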